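import Cfsg.Agent.H98.JFour.Pentad.Data
import Cfsg.Agent.H38.JFour.Checks

/-!
Kernel checks on the tables for the stabiliser of a trio.
-/

set_option autoImplicit false

namespace Cfsg.Agent.H98.JFour.Pentad

open Cfsg.Agent.Golay Cfsg.Agent.H94.M24 Cfsg.Agent.H85.AutM22 H38.JFour GolayTables

/-- The elements of a span. -/
def spanOf (bs : List ℕ) : List ℕ := bs.foldl spanStep [0]

/-- All syndromes of the sum of the parts. -/
def w9List : List ℕ := spanOf w9Bas

/-- A table of an element of the group of the code, in normal form. -/
def good (T : ℕ) : Bool := canonT T && inM24 T && (linGens T).all ev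

/-- Closure of a list of tables under right multiplication by generators. -/
def closedUnder (L gens : List ℕ) : Bool :=
  L.contains idTblVal && gens.all L.contains && L.all fun T => gens.all fun g => L.contains (tblMul T g)

/-- A table normalises a group given by generators and elements. -/
def normalises (L gens : List ℕ) (T : ℕ) : Bool :=
  gens.all fun g => L.any fun g' => tblMul T g == tblMul g' T

/-- A table fixes the given syndromes. -/
def fixes (T : ℕ) (l : List ℕ) : Bool := l.all fun z => lin (linGens T) z == z

theorem tables_check :
    ([dT, sgT, sT] ++ rGens ++ rTab ++ lamGens ++ lamTab ++ sThree ++ lamFix ++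
      raGens.flatMap Prod.snd).all good = true := by
  decide +kernel

theorem closed_check :
    closedUnder rTab rGens = true ∧ rTab.Nodup ∧ rTab.length = 64 ∧
    closedUnder lamTab lamGens = true ∧ lamTab.Nodup ∧ lamTab.length = 168 ∧
    closedUnder sThree [dT, sgT] = true ∧ sThree.Nodup ∧ sThree.length = 6 := by
  decide +kernel

theorem word_check :
    powT 3 dT = idTblVal ∧ dT ≠ idTblVal ∧ tblMul sgT sgT = idTblVal ∧
    tblMul (tblMul sgT dT) sgT = tblMul dT dT ∧ powT 7 sT = idTblVal ∧ sT ≠ idTblVal ∧
    lamTab.contains sT = true ∧
    (lamGens.all fun l => (tblMul dT l == tblMul l dT) && (tblMul sgT l == tblMul l sgT)) = true ∧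
    (rGens.all fun a => rGens.all fun b => tblMul a b == tblMul b a) = true ∧
    (rGens.all fun a => tblMul a a == idTblVal) = true ∧
    (rTab.all fun r => (r == idTblVal) || !(tblMul r sT == tblMul sT r)) = true ∧
    (sThree.all fun x => (x == idTblVal) || !rTab.contains x) = true := by
  decide +kernel

theorem norm_check :
    normalises rTab rGens dT = true ∧ normalises rTab rGens sgT = true ∧
    lamGens.all (normalises rTab rGens) = true := by
  decide +kernel

theorem z_check :
    zList.length = 8 ∧ zList.Nodup ∧ zList.all ev = true ∧
    (zList.all fun z => (z == 0) || isSext z) = true ∧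
    (zList.all fun z => (spanOf zBas).contains z) = true ∧ zBas.all zList.contains = true ∧
    ((graphL (linGens dT)).all fun q => !(q.1 == q.2) || zList.contains q.1) = true ∧
    fixes dT zList = true ∧ fixes sgT zList = true ∧ (rGens.all fun r => fixes r zList) = true ∧
    (lamGens.all fun l => zList.all fun z => zList.contains (lin (linGens l) z)) = true := by
  decide +kernel

theorem lam_check :
    (lamTab.all fun l => (l == idTblVal) || !fixes l zBas) = true ∧
    (zList.all fun z => (z == 0) || lamGens.any fun l => !(lin (linGens l) z == z)) = true ∧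
    lamFix.Nodup ∧ lamFix.length = 4 ∧ lamFix.all lamTab.contains = true ∧
    (lamFix.all fun l => fixes l (zBas.take 2)) = true := by
  decide +kernel

theorem w_check :
    wBases.map Prod.fst = zList.tail ∧
    (wBases.all fun r => decide (r.2.length = 7) && indep r.2 [0] &&
      (r.2.all fun b => isDuad b && isDuad (b ^^^ r.1) && w9List.contains b) &&
      zBas.all (spanOf r.2).contains) = true ∧
    (w9Bas.all fun b => ev b && wBases.any fun r => r.2.contains b) = true ∧ indep w9Bas [0] = true ∧
    w9Bas.length = 9 := by
  decide +kernel

theorem ra_check :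
    raGens.map Prod.fst = zList.tail ∧
    (raGens.all fun r => (r.2.all fun T => rTab.contains T && (lin (linGens T) r.1 == r.1) &&
        wBases.all fun w => !(w.1 == r.1) ||
          w.2.all fun b => (lin (linGens T) b == b) || (lin (linGens T) b == r.1 ^^^ b)) &&
      decide ((r.2.foldl (fun L g => L ++ L.map fun T => tblMul T g) [idTblVal]).Nodup) && decide (r.2.length = 4)) = true ∧
    (rGens.all fun g => raGens.any fun r => r.2.contains g) = true := by
  decide +kernel

theorem w9_check :
    (([dT, sgT] ++ rGens ++ lamGens).all fun T => w9Bas.all fun b => w9List.contains (lin (linGens T) b)) = true ∧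
    (sThree.all fun x => (x == idTblVal) ||
      basisE.any fun v => !w9List.contains (lin (linGens x) v ^^^ v)) = true ∧
    (rTab.all fun r => (r == idTblVal) || !fixes r w9Bas) = true ∧
    (w9List.all fun w => zList.contains w || rGens.any fun r => !(lin (linGens r) w == w)) = true ∧
    (w9List.all fun w => (w == 0) || !(lin (linGens sT) w == w)) = true ∧
    (rGens.all fun r => w9Bas.all fun b => zList.contains (lin (linGens r) b ^^^ b)) = true ∧
    (zBas.all fun z => rGens.any fun r => w9Bas.any fun b => lin (linGens r) b ^^^ b == z) = true := by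
  decide +kernel

theorem pts_check :
    fixPts.length = 3 ∧ ((List.range 24).all fun i => (app sT i == i) == fixPts.contains i) = true ∧
    app dT (fixPts.getD 0 0) = fixPts.getD 1 0 ∧ app dT (fixPts.getD 1 0) = fixPts.getD 2 0 ∧
    app sgT (fixPts.getD 0 0) = fixPts.getD 0 0 ∧ app sgT (fixPts.getD 1 0) ≠ fixPts.getD 1 0 ∧
    app sgT (fixPts.getD 2 0) ≠ fixPts.getD 2 0 ∧
    ((List.range 24).all fun i => lamTab.any fun l => fixPts.any fun f => app l f == i) = true := by
  decide +kernel

end Cfsg.Agent.H98.JFour.Pentad
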