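import Cfsg.Agent.H54.JFour.Struct

/-!
A group of order 8 normalised by the centraliser of a subgroup of order five and permuted transitively by a group of
order 168 meeting its centraliser trivially contradicts a non-split extension in that centraliser.
-/

set_option autoImplicit false

namespace Cfsg.Agent.H98.JFour.Pentad

open Subgroup

variable {G : Type*} [Group G] [Finite G]

theorem card_inj_le {X Y Z : Subgroup G} (hXZ : X ≤ Z) (hYZ : Y ≤ Z) (hd : X ⊓ Y = ⊥) :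
    Nat.card X * Nat.card Y ≤ Nat.card Z := by
  rw [← Nat.card_prod]
  refine Nat.card_le_card_of_injective (fun p => ⟨p.1 * p.2, mul_mem (hXZ p.1.2) (hYZ p.2.2)⟩) ?_
  rintro ⟨x, y⟩ ⟨x', y'⟩ e
  have e' : (x : G) * y = x' * y' := congrArg Subtype.val e
  have e1 : (x' : G)⁻¹ * x = y' * (y : G)⁻¹ := by
    calc (x' : G)⁻¹ * x = (x' : G)⁻¹ * (x * y) * (y : G)⁻¹ := by group
      _ = y' * (y : G)⁻¹ := by rw [e']; group
  have hm : (x' : G)⁻¹ * x ∈ X ⊓ Y :=
    mem_inf.2 ⟨mul_mem (inv_mem x'.2) x.2, e1 ▸ mul_mem y'.2 (inv_mem y.2)⟩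
  rw [hd, mem_bot] at hm
  obtain rfl : x = x' := Subtype.ext (inv_mul_eq_one.1 hm).symm
  exact Prod.ext rfl (Subtype.ext (mul_left_cancel e'))

theorem no_complement {Q J Z B : Subgroup G} (hQ : Nat.card Q = 5)
    (hJ : Cfsg.IsInternalDirectProduct Q J (centralizer (Q : Set G))) {E : Subgroup J} [E.Normal]
    (hEe : Cfsg.IsElementaryAbelian 2 E) (hE : Nat.card E = 8)
    (hiso : Nonempty (J ⧸ E ≃* Matrix.SpecialLinearGroup (Fin 3) (ZMod 2)))
    (hns : ∀ R : Subgroup J, ¬ E.IsComplement' R)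
    (hZ2 : ∀ x ∈ Z, x * x = 1) (hZ8 : Nat.card Z = 8) (hZQ : Z ≤ centralizer (Q : Set G))
    (hQZ : centralizer (Q : Set G) ≤ normalizer (Z : Set G))
    (hBQ : B ≤ centralizer (Q : Set G)) (hB : Nat.card B = 168)
    (hBZ : B ⊓ centralizer (Z : Set G) = ⊥)
    (htr : ∀ x ∈ Z, ∀ y ∈ Z, x ≠ 1 → y ≠ 1 → ∃ b ∈ B, b * x * b⁻¹ = y) : False := by
  classical
  obtain ⟨hQC, hJC, hcomm, hdis, hsup⟩ := hJ
  obtain ⟨gl⟩ := H54.JFour.gl_equiv_sl
  have hJn : J ≤ normalizer (Q : Set G) :=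
    hJC.trans (centralizer_le_normalizer _)
  have hJcard : Nat.card J = 1344 := by
    obtain ⟨e⟩ := hiso
    have := E.card_mul_index
    rw [E.index_eq_card, Nat.card_congr e.toEquiv, ← Nat.card_congr gl.toEquiv, H54.JFour.card_gl, hE] at this
    exact this.symm
  have hdec : ∀ x ∈ centralizer (Q : Set G), ∃ q ∈ Q, ∃ j ∈ J, q * j = x := by
    intro x hx
    have hz : x ∈ (↑(Q ⊔ J) : Set G) := by rw [hsup]; exact hx
    rw [coe_mul_of_right_le_normalizer_left Q J hJn, Set.mem_mul] at hz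
    exact hz
  have hCcard : Nat.card ↥(centralizer (Q : Set G)) = 6720 := by
    refine le_antisymm ?_ ?_
    · have hs : Function.Surjective
          (fun p : Q × J => (⟨p.1 * p.2, mul_mem (hQC p.1.2) (hJC p.2.2)⟩ : ↥(centralizer (Q : Set G)))) := by
        rintro ⟨x, hx⟩
        obtain ⟨q, hq, j, hj, e⟩ := hdec x hx
        exact ⟨(⟨q, hq⟩, ⟨j, hj⟩), Subtype.ext e⟩
      have := Nat.card_le_card_of_surjective _ hs
      rwa [Nat.card_prod, hQ, hJcard] at this
    · have := card_inj_le hQC hJC hdis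
      rwa [hQ, hJcard] at this
  -- two-elements of the centraliser lie in `J`
  have hsmall : ∀ x ∈ centralizer (Q : Set G), x * x = 1 → x ∈ J := by
    intro x hx hxx
    obtain ⟨q, hq, j, hj, rfl⟩ := hdec x hx
    have hc : Commute q j := hcomm q hq j hj
    have h1 : q * q * (j * j) = 1 := by
      rw [← hxx, show q * j * (q * j) = q * (j * q) * j by group, ← hc.eq]; group
    have h2 : q * q ∈ Q ⊓ J := mem_inf.2 ⟨mul_mem hq hq, by
      rw [eq_inv_of_mul_eq_one_left h1]; exact inv_mem (mul_mem hj hj)⟩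
    rw [hdis, mem_bot] at h2
    have h5 : q ^ 5 = 1 := by
      rw [← orderOf_dvd_iff_pow_eq_one]; exact hQ ▸ Subgroup.orderOf_dvd_natCard Q hq
    have : q = 1 := by
      rw [← h5, show q ^ 5 = q * q * (q * q) * q by simp [pow_succ, mul_assoc], h2, one_mul, one_mul]
    rw [this, one_mul]
    exact hj
  have hZJ : Z ≤ J := fun x hx => hsmall x (hZQ hx) (hZ2 x hx)
  set E' := E.map J.subtype with hE'
  have hE'card : Nat.card E' = 8 := by
    rw [hE', Subgroup.card_map_of_injective J.subtype_injective, hE]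
  have hE'2 : ∀ x ∈ E', x * x = 1 := by
    rintro _ ⟨y, hy, rfl⟩
    have := hEe.2 y hy
    rw [pow_two] at this
    exact congrArg Subtype.val this
  have hE'n : ∀ j ∈ J, ∀ x ∈ E', j * x * j⁻¹ ∈ E' := by
    rintro j hj _ ⟨y, hy, rfl⟩
    exact ⟨_, (inferInstance : E.Normal).conj_mem y hy ⟨j, hj⟩, rfl⟩
  have hBJ : ∀ b ∈ B, ∀ x ∈ E', b * x * b⁻¹ ∈ E' := by
    intro b hb x hx
    obtain ⟨q, hq, j, hj, rfl⟩ := hdec b (hBQ hb)
    have hxJ : x ∈ J := map_subtype_le E hx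
    have h' := hE'n j hj x hx
    have hc : q * (j * x * j⁻¹) = (j * x * j⁻¹) * q :=
      hcomm q hq _ (mul_mem (mul_mem hj hxJ) (inv_mem hj))
    rwa [show q * j * x * (q * j)⁻¹ = q * (j * x * j⁻¹) * q⁻¹ by group, hc, mul_inv_cancel_right]
  have hZE : Z ≤ E' := by
    by_contra hne
    obtain ⟨y, hy, hyE⟩ := SetLike.not_le_iff_exists.1 hne
    have hy1 : y ≠ 1 := fun e => hyE (e ▸ one_mem _)
    have hbot : Z ⊓ E' = ⊥ := by
      rw [eq_bot_iff]
      intro x hx
      rw [mem_bot]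
      by_contra hx1
      obtain ⟨b, hb, e⟩ := htr x (mem_inf.1 hx).1 y hy hx1 hy1
      exact hyE (e ▸ hBJ b hb x (mem_inf.1 hx).2)
    set D := centralizer (Q : Set G) ⊓ centralizer (Z : Set G) with hD
    have hED : E' ≤ D := by
      intro x hx
      have hxJ : x ∈ J := map_subtype_le E hx
      refine mem_inf.2 ⟨hJC hxJ, mem_centralizer_iff.2 fun z hz => ?_⟩
      have h1 : z * x * z⁻¹ * x⁻¹ ∈ Z ⊓ E' := mem_inf.2 ⟨by
        rw [show z * x * z⁻¹ * x⁻¹ = z * (x * z⁻¹ * x⁻¹) by group]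
        exact mul_mem hz ((mem_normalizer_iff.1 (hQZ (hJC hxJ)) _).1 (inv_mem hz)),
        mul_mem (hE'n z (hZJ hz) x hx) (inv_mem hx)⟩
      rw [hbot, mem_bot] at h1
      calc z * x = z * x * z⁻¹ * x⁻¹ * (x * z) := by group
        _ = x * z := by rw [h1, one_mul]
    have hZD : Z ≤ D := le_inf hZQ fun x hx => mem_centralizer_iff.2 fun z hz => by
      have hxz := mul_mem hz hx
      have h1 := hZ2 _ hxz
      calc z * x = (z * x)⁻¹ := eq_inv_of_mul_eq_one_left h1
        _ = x * z := by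
          rw [mul_inv_rev, inv_eq_of_mul_eq_one_right (hZ2 x hx), inv_eq_of_mul_eq_one_right (hZ2 z hz)]
    have h64 := card_inj_le hZD hED hbot
    have h40 := card_inj_le (Z := centralizer (Q : Set G)) hBQ (inf_le_left : D ≤ _)
      (le_bot_iff.1 ((inf_le_inf_left _ inf_le_right).trans hBZ.le))
    rw [hZ8, hE'card] at h64
    rw [hB, hCcard] at h40
    simp only [hD] at h64 h40
    omega
  have hEZ : E' = Z := (Subgroup.eq_of_le_of_card_ge hZE (by rw [hE'card, hZ8])).symm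
  have hBle : B ≤ J := by
    intro b hb
    obtain ⟨q, hq, j, hj, rfl⟩ := hdec b (hBQ hb)
    have hc : Commute q j := hcomm q hq j hj
    have h168 : (q * j) ^ 168 = 1 := by
      rw [← orderOf_dvd_iff_pow_eq_one]; exact hB ▸ Subgroup.orderOf_dvd_natCard B hb
    rw [hc.mul_pow] at h168
    have h2 : q ^ 168 ∈ Q ⊓ J := mem_inf.2 ⟨pow_mem hq _, by
      rw [eq_inv_of_mul_eq_one_left h168]; exact inv_mem (pow_mem hj _)⟩
    rw [hdis, mem_bot] at h2
    have h5 : q ^ 5 = 1 := by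
      rw [← orderOf_dvd_iff_pow_eq_one]; exact hQ ▸ Subgroup.orderOf_dvd_natCard Q hq
    have h3 : q ^ 3 = 1 := by
      rw [show 168 = 5 * 33 + 3 from rfl, pow_add, pow_mul, h5, one_pow, one_mul] at h2
      exact h2
    have : q = 1 := by
      have h6 : q ^ (Nat.gcd 5 3) = 1 := pow_gcd_eq_one.2 ⟨h5, h3⟩
      simpa using h6
    rw [this, one_mul]
    exact hj
  refine hns (B.subgroupOf J) (Subgroup.isComplement'_of_disjoint_and_mul_eq_univ ?_ ?_)
  · rw [disjoint_iff, eq_bot_iff]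
    intro x hx
    have hxE : (x : G) ∈ Z := hEZ ▸ ⟨x, (mem_inf.1 hx).1, rfl⟩
    have hxC : (x : G) ∈ centralizer (Z : Set G) := mem_centralizer_iff.2 fun z hz => by
      have h1 := hZ2 _ (mul_mem hz hxE)
      calc z * x = (z * x : G)⁻¹ := eq_inv_of_mul_eq_one_left h1
        _ = x * z := by
          rw [mul_inv_rev, inv_eq_of_mul_eq_one_right (hZ2 _ hxE), inv_eq_of_mul_eq_one_right (hZ2 z hz)]
    have h2 : (x : G) ∈ B ⊓ centralizer (Z : Set G) := mem_inf.2 ⟨(mem_inf.1 hx).2, hxC⟩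
    rw [hBZ, mem_bot] at h2
    exact Subtype.ext h2
  · rw [Set.eq_univ_iff_forall]
    intro x
    have hd : Z ⊓ B = ⊥ := by
      rw [eq_bot_iff]
      intro y hy
      have hyC : y ∈ centralizer (Z : Set G) := mem_centralizer_iff.2 fun z hz => by
        have h1 := hZ2 _ (mul_mem hz (mem_inf.1 hy).1)
        calc z * y = (z * y)⁻¹ := eq_inv_of_mul_eq_one_left h1
          _ = y * z := by
            rw [mul_inv_rev, inv_eq_of_mul_eq_one_right (hZ2 _ (mem_inf.1 hy).1),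
              inv_eq_of_mul_eq_one_right (hZ2 z hz)]
      have h2 : y ∈ B ⊓ centralizer (Z : Set G) := mem_inf.2 ⟨(mem_inf.1 hy).2, hyC⟩
      rwa [hBZ] at h2
    have hle := card_inj_le (Z := Z ⊔ B) le_sup_left le_sup_right hd
    rw [hZ8, hB] at hle
    have htop : Z ⊔ B = J := Subgroup.eq_of_le_of_card_ge (sup_le hZJ hBle) (by omega)
    have hx : (x : G) ∈ (↑(Z ⊔ B) : Set G) := by rw [htop]; exact x.2
    rw [coe_mul_of_right_le_normalizer_left Z B (hBQ.trans hQZ), Set.mem_mul] at hx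
    obtain ⟨z, hz, b, hb, e⟩ := hx
    refine ⟨⟨z, hZJ hz⟩, ?_, ⟨b, hBle hb⟩, hb, Subtype.ext e⟩
    obtain ⟨y, hy, e'⟩ := (hEZ.symm ▸ hz : z ∈ E')
    rwa [show (⟨z, hZJ hz⟩ : J) = y from Subtype.ext e'.symm]

end Cfsg.Agent.H98.JFour.Pentad
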