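import Cfsg.Agent.H98.JFour.Pentad.Groups
import Cfsg.Agent.H98.JFour.Cores

/-!
The centraliser of the elementary group of order 8 in the core of each of its involutions, and the join of these.
-/

set_option autoImplicit false
set_option linter.style.haveILetI false

namespace Cfsg.Agent.H98.JFour.Pentad

open Cfsg Cfsg.Agent.Golay Cfsg.Agent.H94.M24 Subgroup H43.JFour H38.JFour GolayTables

universe u v

variable {G : Type u} [Group G] [Finite G] {A : Type v} [Group A]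
variable {c : Ctx G A} {M W : Subgroup A} {h : Pkg c M W} {K : Subgroup G} {t : h.V}
variable (S : Setting h K t)

/-- The part of the core of `a` centralising the group of order 8. -/
noncomputable def part (a : G) : Subgroup G :=
  Cfsg.twoCoreOfCentralizer a ⊓ centralizer (Zg S : Set G)

/-- The join of the parts. -/
noncomputable def pentCore : Subgroup G := ⨆ a ∈ {a : G | a ∈ Zg S ∧ a ≠ 1}, part S a

theorem part_le_core {a : G} (ha : a ∈ Zg S) (h1 : a ≠ 1) : part S a ≤ pentCore S :=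
  le_iSup₂_of_le a ⟨ha, h1⟩ le_rfl

theorem F_eq_one_iff {s : ℕ} (hs : s ∈ zList) : S.F s = 1 ↔ s = 0 := S.F_eq_one (zList_ev hs)

theorem exists_wBases {a : G} (ha : a ∈ Zg S) (h1 : a ≠ 1) :
    ∃ r ∈ wBases, S.F r.1 = a ∧ ev r.1 = true := by
  obtain ⟨s, hs, rfl⟩ := (mem_Zg S).1 ha
  have hne : s ≠ 0 := fun e => h1 ((F_eq_one_iff S hs).2 e)
  have hm : s ∈ wBases.map Prod.fst := by
    rw [w_check.1]
    revert hne
    revert hs
    simp only [zList, List.mem_cons, List.not_mem_nil, or_false, List.tail_cons]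
    tauto
  obtain ⟨r, hr, rfl⟩ := List.mem_map.1 hm
  exact ⟨r, hr, rfl, zList_ev hs⟩

theorem wBases_spec {r : ℕ × List ℕ} (hr : r ∈ wBases) :
    r.2.length = 7 ∧ indep r.2 [0] = true ∧
      (∀ b ∈ r.2, isDuad b = true ∧ isDuad (b ^^^ r.1) = true ∧ b ∈ w9List) ∧
      ∀ z ∈ zBas, z ∈ spanOf r.2 := by
  have h := List.all_eq_true.1 w_check.2.1 r hr
  simp only [Bool.and_eq_true, decide_eq_true_eq, List.all_eq_true, List.contains_iff_mem] at h
  obtain ⟨⟨⟨h1, h2⟩, h3⟩, h4⟩ := h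
  exact ⟨h1, h2, fun b hb => ⟨(h3 b hb).1.1, (h3 b hb).1.2, (h3 b hb).2⟩, h4⟩

theorem synGrp_wBases {r : ℕ × List ℕ} (hr : r ∈ wBases) (hev : ev r.1 = true)
    (hz : IsConj c.z (S.F r.1)) :
    synGrp S r.2 = h.V ⊓ Cfsg.twoCoreOfCentralizer (S.F r.1) := by
  obtain ⟨hlen, hind, hb, -⟩ := wBases_spec hr
  refine Subgroup.eq_of_le_of_card_ge (le_inf (synGrp_le_V S _) ?_) ?_
  · rw [synGrp, closure_le]
    rintro x ⟨b, hb', rfl⟩
    obtain ⟨h1, h2, -⟩ := hb b hb'
    have hbev := (ev_of_isDuad h1).1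
    refine S.pair_core (S.F_mem _) hz ((S.F_rest hbev).2 h1) ?_
    rw [← S.F_xor]
    exact (S.F_rest (ev_xor hbev hev)).2 h2
  · rw [S.card_core_V (S.F_mem _) hz, card_synGrp S (fun b hb' => (ev_of_isDuad (hb b hb').1).1) hind,
      hlen]
    rfl

theorem ra_spec {r : ℕ × List ℕ} (hr : r ∈ raGens) :
    (∀ T ∈ r.2, T ∈ rTab ∧ lin (linGens T) r.1 = r.1 ∧ ∀ w ∈ wBases, w.1 = r.1 → ∀ b ∈ w.2,
      lin (linGens T) b = b ∨ lin (linGens T) b = r.1 ^^^ b) ∧
    (r.2.foldl (fun L g => L ++ L.map fun T => tblMul T g) [idTblVal]).Nodup ∧ r.2.length = 4 := by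
  have h := List.all_eq_true.1 ra_check.2.1 r hr
  simp only [Bool.and_eq_true, decide_eq_true_eq, List.all_eq_true, List.contains_iff_mem, beq_iff_eq,
    Bool.or_eq_true, Bool.not_eq_true', beq_eq_false_iff_ne] at h
  exact ⟨fun T hT => ⟨(h.1.1 T hT).1.1, (h.1.1 T hT).1.2,
    fun w hw he b hb => ((h.1.1 T hT).2 w hw).elim (fun e => absurd he e) (fun e => e b hb)⟩, h.1.2, h.2⟩

theorem fold_mem {gens : List ℕ} (hg : ∀ T ∈ gens, Gd T) : ∀ T ∈
    gens.foldl (fun L g => L ++ L.map fun T => tblMul T g) [idTblVal], Gd T ∧ lf S T ∈ tabGrp S gens := by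
  suffices key : ∀ (l L : List ℕ), (∀ g ∈ l, g ∈ gens) → (∀ T ∈ L, Gd T ∧ lf S T ∈ tabGrp S gens) →
      ∀ T ∈ l.foldl (fun L g => L ++ L.map fun T => tblMul T g) L, Gd T ∧ lf S T ∈ tabGrp S gens from
    key gens _ (fun _ hg' => hg') fun T hT => by
      rw [List.mem_singleton.1 hT, lf_one]; exact ⟨gd_id, one_mem _⟩
  intro l
  induction l with
  | nil => exact fun _ _ hL => hL
  | cons g l ih =>
    intro L hl hL
    refine ih _ (fun x hx => hl x (List.mem_cons_of_mem _ hx)) fun T hT => ?_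
    rcases List.mem_append.1 hT with hT | hT
    · exact hL T hT
    · obtain ⟨U, hU, rfl⟩ := List.mem_map.1 hT
      have hgm := hl g List.mem_cons_self
      refine ⟨(hL U hU).1.mul (hg g hgm), ?_⟩
      rw [lf_mul S (hL U hU).1 (hg g hgm)]
      exact mul_mem (hL U hU).2 (lf_mem_tabGrp S hgm)

theorem fold_length : ∀ (l L : List ℕ),
    (l.foldl (fun L g => L ++ L.map fun T => tblMul T g) L).length = 2 ^ l.length * L.length
  | [], L => by simp
  | g :: l, L => by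
    rw [List.foldl_cons, fold_length l, List.length_append, List.length_map, List.length_cons, pow_succ]
    ring

theorem card_ra {r : ℕ × List ℕ} (hr : r ∈ raGens) : 16 ≤ Nat.card (tabGrp S r.2) := by
  classical
  obtain ⟨-, hnd, h4⟩ := ra_spec hr
  have hg := fold_mem S (gens := r.2) fun T hT => gd_of_good (good_ra hr hT)
  set L := r.2.foldl (fun L g => L ++ L.map fun T => tblMul T g) [idTblVal] with hL
  have hlen : L.length = 16 := by rw [hL, fold_length, h4]; rfl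
  have hnd' : (L.map (lf S)).Nodup :=
    hnd.map_on fun x hx y hy e => lf_inj S (hg x hx).1 (hg y hy).1 e
  have hsub : ((L.map (lf S)).toFinset : Set G) ⊆ (tabGrp S r.2 : Set G) := by
    intro x hx
    rw [Finset.mem_coe, List.mem_toFinset, List.mem_map] at hx
    obtain ⟨T, hT, rfl⟩ := hx
    exact (hg T hT).2
  have hle := Set.ncard_le_ncard hsub (Set.toFinite _)
  rw [Set.ncard_coe_finset, List.toFinset_card_of_nodup hnd', List.length_map, hlen] at hle
  exact hle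

theorem exists_ra {s : ℕ} (hs : s ∈ wBases.map Prod.fst) : ∃ r ∈ raGens, r.1 = s := by
  rw [w_check.1, ← ra_check.1, List.mem_map] at hs
  obtain ⟨r, hr, e⟩ := hs
  exact ⟨r, hr, e⟩

theorem ra_le_part {r : ℕ × List ℕ} (hr : r ∈ raGens) (hev : ev r.1 = true)
    (hz : IsConj c.z (S.F r.1)) : tabGrp S r.2 ≤ part S (S.F r.1) := by
  rw [tabGrp, closure_le]
  rintro x ⟨T, hT, rfl⟩
  obtain ⟨hTr, hfix, hw⟩ := (ra_spec hr).1 T hT
  have hgood := good_rTab hTr
  have hs : r.1 ∈ wBases.map Prod.fst := by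
    rw [w_check.1, ← ra_check.1]; exact List.mem_map.2 ⟨r, hr, rfl⟩
  obtain ⟨w, hw', he⟩ := List.mem_map.1 hs
  refine mem_inf.2 ⟨S.mem_core_of_fix (S.F_mem _) hz (lf_K S (gd_of_good hgood))
    ((lf_fix S hgood hev).2 hfix) fun v hv => ?_, Rg_cent S ((Rg_mem S).2 ⟨T, hTr, rfl⟩)⟩
  have e := synGrp_wBases S hw' (he.symm ▸ hev) (he.symm ▸ hz)
  rw [he] at e
  rw [← e] at hv
  obtain ⟨s, hs', rfl⟩ := (mem_synGrp S).1 hv
  have hbev : ∀ b ∈ w.2, ev b = true := fun b hb => (ev_of_isDuad ((wBases_spec hw').2.2.1 b hb).1).1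
  refine H38.JFour.span_induction
    (P := fun y => lf S T * S.F y * (lf S T)⁻¹ = S.F y ∨ lf S T * S.F y * (lf S T)⁻¹ = S.F r.1 * S.F y)
    ?_ w.2 [0] (fun b hb => ?_) (fun y hy => Or.inl (by rw [List.mem_singleton.1 hy, S.F_zero]; group)) s hs'
  · intro x y hx hy
    have hc' : ∀ x' y', S.F x' * (S.F r.1 * S.F y') = S.F r.1 * (S.F x' * S.F y') := fun x' y' => by
      rw [← mul_assoc, h.V_comm (S.F_mem x') (S.F_mem r.1), mul_assoc]
    have hsplit : lf S T * S.F (x ^^^ y) * (lf S T)⁻¹ =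
        (lf S T * S.F x * (lf S T)⁻¹) * (lf S T * S.F y * (lf S T)⁻¹) := by rw [S.F_xor]; group
    rw [hsplit, S.F_xor]
    rcases hx with hx | hx <;> rcases hy with hy | hy <;> rw [hx, hy]
    · exact Or.inl rfl
    · exact Or.inr (hc' x y)
    · exact Or.inr (mul_assoc _ _ _)
    · left
      rw [mul_assoc, hc', ← mul_assoc, S.F_sq, one_mul]
  · have hc := (lf_conj S hgood (hbev b hb)).2
    rcases hw w hw' he b hb with e | e <;> rw [e] at hc
    · exact Or.inl hc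
    · exact Or.inr (by rw [hc, S.F_xor])

include S in
theorem card_prod_le {X Y Z : Subgroup G} (hX : X ≤ h.V) (hY : Y ≤ K) (hXZ : X ≤ Z) (hYZ : Y ≤ Z) :
    Nat.card X * Nat.card Y ≤ Nat.card Z := by
  rw [← Nat.card_prod]
  refine Nat.card_le_card_of_injective (fun p => ⟨p.1 * p.2, mul_mem (hXZ p.1.2) (hYZ p.2.2)⟩) ?_
  intro p q e
  obtain ⟨e1, e2⟩ := S.hK.unique (hX p.1.2) (hX q.1.2) (hY p.2.2) (hY q.2.2) (congrArg Subtype.val e :)
  exact Prod.ext (Subtype.ext e1) (Subtype.ext e2)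

/-- The structure of a part. -/
theorem part_eq {a : G} (ha : a ∈ Zg S) (h1 : a ≠ 1) : ∃ r ∈ wBases, ∃ q ∈ raGens, S.F r.1 = a ∧
    q.1 = r.1 ∧ part S a = synGrp S r.2 ⊔ tabGrp S q.2 ∧ Nat.card (part S a) = 2 ^ 11 := by
  classical
  obtain ⟨r, hr, rfl, hev⟩ := exists_wBases S ha h1
  obtain ⟨q, hq, hqr⟩ := exists_ra (List.mem_map.2 ⟨r, hr, rfl⟩)
  have haz : IsConj c.z (S.F r.1) := Zg_conj S ha h1
  have e := synGrp_wBases S hr hev haz
  have hWle : synGrp S r.2 ≤ part S (S.F r.1) := by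
    rw [e]
    exact inf_le_inf_left _ le_rfl |>.trans (le_inf inf_le_right (inf_le_left.trans (V_cent_Zg S)))
  have hRle : tabGrp S q.2 ≤ part S (S.F r.1) := hqr ▸ ra_le_part S hq (hqr ▸ hev) (hqr ▸ haz)
  have hlow : 2 ^ 11 ≤ Nat.card ↥(synGrp S r.2 ⊔ tabGrp S q.2 : Subgroup G) := by
    refine le_trans ?_ (card_prod_le S (synGrp_le_V S _)
      (tabGrp_le_K S fun T hT => gd_of_good (good_ra hq hT)) le_sup_left le_sup_right)
    rw [e, S.card_core_V (S.F_mem _) haz]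
    exact le_trans (by norm_num) (Nat.mul_le_mul_left 128 (card_ra S hq))
  -- two further elements of the group
  obtain ⟨p, hp, hp1, hpa⟩ : ∃ p ∈ Zg S, p ≠ 1 ∧ p ≠ S.F r.1 := by
    have hn : ((Zg S : Set G) \ {1, S.F r.1}).Nonempty := by
      refine Set.nonempty_of_ncard_ne_zero fun e0 => ?_
      have := Set.le_ncard_sdiff {1, S.F r.1} (Zg S : Set G) (Set.toFinite _)
      rw [e0, ← Nat.card_coe_set_eq, show Nat.card ↥(Zg S : Set G) = 8 from card_Zg S,
        Set.ncard_pair (Ne.symm h1)] at this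
      omega
    obtain ⟨p, hp, hn⟩ := hn
    simp only [Set.mem_insert_iff, Set.mem_singleton_iff, not_or] at hn
    exact ⟨p, hp, hn.1, hn.2⟩
  obtain ⟨f, hf, hfn⟩ : ∃ f ∈ Zg S, ¬ (f = 1 ∨ f = S.F r.1 ∨ f = p ∨ f = S.F r.1 * p) := by
    by_contra hno
    push Not at hno
    have hs : (Zg S : Set G) ⊆ (({1, S.F r.1, p, S.F r.1 * p} : Finset G) : Set G) := fun x hx => by
      simp only [Finset.coe_insert, Finset.coe_singleton, Set.mem_insert_iff, Set.mem_singleton_iff]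
      exact hno x hx
    have := Set.ncard_le_ncard hs (Set.toFinite _)
    rw [← Nat.card_coe_set_eq, show Nat.card ↥(Zg S : Set G) = 8 from card_Zg S,
      Set.ncard_coe_finset] at this
    exact absurd (this.trans Finset.card_le_four) (by norm_num)
  have hZcore : ∀ x ∈ Zg S, x ∈ Cfsg.twoCoreOfCentralizer (S.F r.1) := fun x hx => by
    refine (mem_inf.1 (?_ : x ∈ h.V ⊓ Cfsg.twoCoreOfCentralizer (S.F r.1))).2
    rw [← e]
    refine (closure_le _).2 ?_ hx
    rintro _ ⟨b, hb, rfl⟩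
    exact (mem_synGrp S).2 ⟨b, (wBases_spec hr).2.2.2 b hb, rfl⟩
  have hup : Nat.card (part S (S.F r.1)) ≤ 2 ^ 11 := by
    have hsub : part S (S.F r.1) ≤ Cfsg.twoCoreOfCentralizer (S.F r.1) ⊓ centralizer ({p} : Set G) :=
      inf_le_inf_left _ (centralizer_le (Set.singleton_subset_iff.2 hp))
    have hidx := core_index h.hc S.hE haz (hZcore p hp) hp1 hpa
    have hne : part S (S.F r.1) ≠ Cfsg.twoCoreOfCentralizer (S.F r.1) ⊓ centralizer ({p} : Set G) := by
      intro e'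
      refine hfn (core_cent h.hc S.hE haz (hZcore p hp) (hZcore f hf) hp1 hpa ?_)
      rw [← e']
      exact inf_le_right.trans (centralizer_le (Set.singleton_subset_iff.2 hf))
    have hd := Subgroup.card_dvd_of_le hsub
    rw [hidx] at hd
    obtain ⟨k, hk, e'⟩ := (Nat.dvd_prime_pow Nat.prime_two).1 hd
    have hk12 : k ≠ 12 := fun e12 => hne (Subgroup.eq_of_le_of_card_ge hsub (by rw [hidx, e', e12]))
    rw [e']
    exact Nat.pow_le_pow_right (by norm_num) (by omega)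
  have heq : synGrp S r.2 ⊔ tabGrp S q.2 = part S (S.F r.1) :=
    Subgroup.eq_of_le_of_card_ge (sup_le hWle hRle) (hup.trans hlow)
  exact ⟨r, hr, q, hq, rfl, hqr, heq.symm, le_antisymm hup (heq ▸ hlow)⟩

theorem synGrp_wBases_le {r : ℕ × List ℕ} (hr : r ∈ wBases) : synGrp S r.2 ≤ W9g S := by
  rw [synGrp, closure_le]
  rintro x ⟨b, hb, rfl⟩
  exact (mem_synGrp S).2 ⟨b, ((wBases_spec hr).2.2.1 b hb).2.2, rfl⟩

theorem tabGrp_ra_le {r : ℕ × List ℕ} (hr : r ∈ raGens) : tabGrp S r.2 ≤ Rg S := by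
  rw [tabGrp, closure_le]
  rintro x ⟨T, hT, rfl⟩
  exact (Rg_mem S).2 ⟨T, ((ra_spec hr).1 T hT).1, rfl⟩

theorem Rg_norm_W9g : Rg S ≤ normalizer (W9g S : Set G) :=
  le_trans (le_sup_left.trans le_sup_left) (W9g_norm S)

theorem pentCore_eq : pentCore S = W9g S ⊔ Rg S := by
  refine le_antisymm (iSup₂_le fun a ha => ?_) (sup_le ?_ ?_)
  · obtain ⟨r, hr, q, hq, -, -, e, -⟩ := part_eq S ha.1 ha.2
    rw [e]
    exact sup_le_sup (synGrp_wBases_le S hr) (tabGrp_ra_le S hq)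
  · rw [W9g, synGrp, closure_le]
    rintro x ⟨b, hb, rfl⟩
    have h1 := List.all_eq_true.1 w_check.2.2.1 b hb
    simp only [Bool.and_eq_true, List.any_eq_true, List.contains_iff_mem] at h1
    obtain ⟨r, hr, hbr⟩ := h1.2
    have hs : r.1 ∈ zList.tail := w_check.1 ▸ List.mem_map.2 ⟨r, hr, rfl⟩
    have hz : r.1 ∈ zList := List.mem_of_mem_tail hs
    have hne : r.1 ≠ 0 := by
      intro e0; rw [e0] at hs; revert hs; simp [zList]
    have haZ : S.F r.1 ∈ Zg S := (mem_Zg S).2 ⟨_, hz, rfl⟩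
    have ha1 : S.F r.1 ≠ 1 := fun e' => hne ((F_eq_one_iff S hz).1 e')
    refine part_le_core S haZ ha1 (mem_inf.2 ⟨?_, V_cent_Zg S (S.F_mem b)⟩)
    have := F_mem_synGrp S hbr
    rw [synGrp_wBases S hr (zList_ev hz) (Zg_conj S haZ ha1)] at this
    exact (mem_inf.1 this).2
  · rw [Rg, tabGrp, closure_le]
    rintro x ⟨T, hT, rfl⟩
    have h1 := List.all_eq_true.1 ra_check.2.2 T hT
    simp only [List.any_eq_true, List.contains_iff_mem] at h1
    obtain ⟨r, hr, hTr⟩ := h1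
    have hs : r.1 ∈ zList.tail := ra_check.1 ▸ List.mem_map.2 ⟨r, hr, rfl⟩
    have hz : r.1 ∈ zList := List.mem_of_mem_tail hs
    have hne : r.1 ≠ 0 := by
      intro e0; rw [e0] at hs; revert hs; simp [zList]
    have haZ : S.F r.1 ∈ Zg S := (mem_Zg S).2 ⟨_, hz, rfl⟩
    have ha1 : S.F r.1 ≠ 1 := fun e' => hne ((F_eq_one_iff S hz).1 e')
    exact part_le_core S haZ ha1
      (ra_le_part S hr (zList_ev hz) (Zg_conj S haZ ha1) (lf_mem_tabGrp S hTr))

theorem card_pentCore : Nat.card (pentCore S) = 2 ^ 15 := by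
  rw [pentCore_eq]
  have h9 : Nat.card (W9g S) = 2 ^ 9 := by
    rw [card_synGrp S (fun _ => w9Bas_ev) w_check.2.2.2.1, w_check.2.2.2.2]
  have he : Nat.card ↥(W9g S ⊔ Rg S : Subgroup G) = Nat.card (W9g S) * Nat.card (Rg S) := by
    refine le_antisymm ?_ (card_prod_le S (synGrp_le_V S _) (Rg_le_K S) le_sup_left le_sup_right)
    rw [← Nat.card_prod]
    refine Nat.card_le_card_of_surjective
      (fun p => ⟨p.1 * p.2, mul_mem (mem_sup_left p.1.2) (mem_sup_right p.2.2)⟩) fun x => ?_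
    obtain ⟨w, hw, r, hr, e⟩ := exists_mul_of_mem_sup (Rg_norm_W9g S) x.2
    exact ⟨(⟨w, hw⟩, ⟨r, hr⟩), Subtype.ext e.symm⟩
  rw [he, h9, card_Rg]
  norm_num

end Cfsg.Agent.H98.JFour.Pentad
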