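import Cfsg.Agent.H98.JFour.Pentad.Locals
import Cfsg.Agent.S5572
import Cfsg.Agent.S5573

/-!
The pentad 2-local of a group of Janko-four type.
-/

set_option autoImplicit false
set_option linter.style.haveILetI false

namespace Cfsg.Agent.H98.JFour.Pentad

open Cfsg Cfsg.Agent.Golay Cfsg.Agent.H94.M24 Subgroup H43.JFour H38.JFour GolayTables

universe u v

variable {G : Type u} [Group G] [Finite G]

/-- A conjugate in the centraliser of `z` of a subgroup centralising a conjugate of `z`. -/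
theorem exists_conj_cent {z a : G} {Q : Subgroup G} (hc : IsConj z a)
    (hQ : Q ≤ centralizer ({a} : Set G)) :
    ∃ e : G ≃* G, Q.map e.toMonoidHom ≤ centralizer ({z} : Set G) := by
  obtain ⟨g, hg⟩ := isConj_iff.1 hc.symm
  refine ⟨MulAut.conj g, ?_⟩
  rintro _ ⟨q, hq, rfl⟩
  refine mem_centralizer_singleton_iff.2 ?_
  have hqa : q * a = a * q := mem_centralizer_singleton_iff.1 (hQ hq)
  show g * q * g⁻¹ * z = z * (g * q * g⁻¹)
  rw [← hg, show g * q * g⁻¹ * (g * a * g⁻¹) = g * (q * a) * g⁻¹ by group, hqa]; group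

/-- The pentad 2-local. -/
theorem exists_pentad [IsSimpleGroup G] (hG : ¬ IsMulCommutative G) (hJ : Cfsg.IsOfJankoFourType G) :
    ∃ L : Subgroup G, Cfsg.IsSpecial 2 ↥L ∧ Nat.card ↥L = 2 ^ 15 ∧ Nat.card ↥(Subgroup.center ↥L) = 8 ∧
    Nonempty (↥(normalizer (L : Set G)) ⧸ L.subgroupOf (normalizer (L : Set G)) ≃*
      Equiv.Perm (Fin 5) × Matrix.SpecialLinearGroup (Fin 3) (ZMod 2)) ∧
    (∀ K : Subgroup ↥(normalizer (L : Set G)), ¬ (L.subgroupOf (normalizer (L : Set G))).IsComplement' K) ∧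
    (∃ K₁ : Subgroup G, K₁ ≤ normalizer (L : Set G) ∧ Nonempty (↥K₁ ≃* Equiv.Perm (Fin 5))) ∧
    (∃ K₂ : Subgroup G, K₂ ≤ normalizer (L : Set G) ∧
      Nonempty (↥K₂ ≃* Matrix.SpecialLinearGroup (Fin 3) (ZMod 2))) ∧
    (∃ Q : Sylow 5 G, normalizer ((Q : Subgroup G) : Set G) ≤ normalizer (L : Set G)) ∧
    (∃ S : Sylow 7 G, normalizer ((S : Subgroup G) : Set G) ≤ normalizer (L : Set G)) := by
  classical
  haveI : Fact (Nat.Prime 5) := ⟨by norm_num⟩
  haveI : Fact (Nat.Prime 7) := ⟨by norm_num⟩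
  obtain ⟨z, hz⟩ := hJ
  obtain ⟨c, W, W', a, b, u, rfl, hE, -, h, h', hM, hF⟩ := exists_full_setup hG hz
  obtain ⟨K, hK, hKV, hsup, -⟩ := exists_mathieu_complement h h' hM hF
  obtain ⟨t, ht⟩ := Set.nonempty_of_ncard_ne_zero (s := h.fib h.rest 1)
    (by rw [(h.rest_A7 hF).1]; norm_num)
  obtain ⟨D⟩ := exists_dictOf h hF (t := ⟨t, ht.1.1.1⟩) ht.1
  have S : Setting h K ⟨t, ht.1.1.1⟩ := ⟨hF, hE, ⟨hK, hKV, hsup⟩, ht.1, D⟩
  obtain ⟨φ, hφs, hφk, -⟩ := exists_quot S hG
  have hN := norm_pentCore S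
  refine ⟨pentCore S, isSpecial S, card_pentCore S, card_center S, ?_, ?_, ?_, ?_, ?_, ?_⟩
  · let ψ := φ.comp (MulEquiv.subgroupCongr hN).toMonoidHom
    have hψ : ψ.ker = (pentCore S).subgroupOf (normalizer (pentCore S : Set G)) := by
      ext x
      show φ _ = 1 ↔ _
      rw [← MonoidHom.mem_ker, hφk, mem_subgroupOf, mem_subgroupOf]
      rfl
    exact ⟨(QuotientGroup.quotientMulEquivOfEq hψ.symm).trans
      (QuotientGroup.quotientKerEquivOfSurjective ψ (hφs.comp (MulEquiv.subgroupCongr hN).surjective))⟩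
  · rw [hN]
    exact not_split S hG fun Q hQ hQz =>
      let r := S5572.result hG c.z hz Q hQ hQz
      ⟨r.1, r.2.1, r.2.2.2⟩
  · obtain ⟨R, hR, e⟩ := exists_symm S hG
    exact ⟨R, hN ▸ hR.trans (centralizer_le_normalizer _), e⟩
  · exact ⟨Lam S, hN ▸ Lam_norm_Zg S, Lam_iso S⟩
  · obtain ⟨⟨q, hqC⟩, hq⟩ := exists_prime_orderOf_dvd_card' (G := ↥(centralizer (Zg S : Set G))) 5
      (by rw [(card_cent S hG).1]; norm_num)
    rw [← Subgroup.orderOf_coe] at hq
    have hQ : Nat.card (zpowers q) = 5 := by rw [Nat.card_zpowers, hq]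
    obtain ⟨x, hx, hx1⟩ : ∃ x ∈ Zg S, x ≠ 1 := by
      refine ⟨S.F 29, F_mem_synGrp S (by decide), fun e => ?_⟩
      have := (S.F_eq_one (zList_ev (s := 29) (by decide))).1 e
      omega
    obtain ⟨e, he⟩ := exists_conj_cent (Q := zpowers q) (Zg_conj S hx hx1)
      (zpowers_le.2 (mem_centralizer_singleton_iff.2 (mem_centralizer_iff.1 hqC x hx).symm))
    obtain ⟨h25, -, -, hn⟩ := S5572.result hG c.z hz ((zpowers q).map e.toMonoidHom)
      (by rw [Subgroup.card_map_of_injective e.injective, hQ]) he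
    rw [H85.AutM22.norm_map_e, Subgroup.card_map_of_injective e.injective] at hn
    have hdvd : 5 ∣ Nat.card G := hQ ▸ card_subgroup_dvd_card _
    have hfac : (Nat.card G).factorization 5 = 1 := by
      refine le_antisymm ?_ ((Nat.Prime.dvd_iff_one_le_factorization (by norm_num) Nat.card_pos.ne').1 hdvd)
      by_contra hlt
      exact h25 (((Nat.Prime.pow_dvd_iff_le_factorization (p := 5) (k := 2) (n := Nat.card G) (by norm_num) Nat.card_pos.ne').2 (by omega) :))
    refine ⟨Sylow.ofCard (zpowers q) (by rw [hQ, hfac, pow_one]), ?_⟩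
    rw [Sylow.coe_ofCard, hN]
    exact normalizer_five S hG hQ (zpowers_le.2 hqC) hn
  · obtain ⟨w, -, -, hwz, -, hall, -⟩ := exists_central S hG
    have hs7 : Nat.card (zpowers (lf S sT)) = 7 := by rw [Nat.card_zpowers, se_order]
    have hsw : lf S sT * w = w * lf S sT :=
      hall _ (mem_centralizer_singleton_iff.1 (mem_inf.1 (d_Lam S (se_mem S))).1)
    obtain ⟨e, he⟩ := exists_conj_cent (Q := zpowers (lf S sT)) hwz
      (zpowers_le.2 (mem_centralizer_singleton_iff.2 hsw))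
    obtain ⟨h49, -, -, hn⟩ := S5573.result hG c.z hz ((zpowers (lf S sT)).map e.toMonoidHom)
      (by rw [Subgroup.card_map_of_injective e.injective, hs7]) he
    rw [H85.AutM22.norm_map_e, Subgroup.card_map_of_injective e.injective] at hn
    have hdvd : 7 ∣ Nat.card G := hs7 ▸ card_subgroup_dvd_card _
    have hfac : (Nat.card G).factorization 7 = 1 := by
      refine le_antisymm ?_ ((Nat.Prime.dvd_iff_one_le_factorization (by norm_num) Nat.card_pos.ne').1 hdvd)
      by_contra hlt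
      exact h49 (((Nat.Prime.pow_dvd_iff_le_factorization (p := 7) (k := 2) (n := Nat.card G) (by norm_num) Nat.card_pos.ne').2 (by omega) :))
    refine ⟨Sylow.ofCard (zpowers (lf S sT)) (by rw [hs7, hfac, pow_one]), ?_⟩
    rw [Sylow.coe_ofCard, hN]
    exact normalizer_seven S hG hn

end Cfsg.Agent.H98.JFour.Pentad
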