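import Cfsg.Agent.H98.JFour.Pentad.Lift

/-!
The subgroups of the trio stabiliser used for the pentad 2-local.
-/

set_option autoImplicit false
set_option linter.style.haveILetI false

namespace Cfsg.Agent.H98.JFour.Pentad

open Cfsg Cfsg.Agent.Golay Cfsg.Agent.H94.M24 Subgroup H43.JFour H38.JFour GolayTables

universe u v

theorem zspan_check : (spanOf zBas).all zList.contains = true ∧ indep zBas [0] = true ∧
    zBas.length = 3 := by
  decide +kernel

/-- Every table used is good. -/
theorem good_tables {T : ℕ}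
    (hT : T ∈ [dT, sgT, sT] ∨ T ∈ rGens ∨ T ∈ rTab ∨ T ∈ lamGens ∨ T ∈ lamTab ∨ T ∈ sThree ∨
      T ∈ lamFix ∨ T ∈ raGens.flatMap Prod.snd) : good T = true := by
  refine List.all_eq_true.1 tables_check T ?_
  simp only [List.mem_append]
  tauto

theorem good_d : good dT = true := good_tables (Or.inl (by simp))
theorem good_sg : good sgT = true := good_tables (Or.inl (by simp))
theorem good_s : good sT = true := good_tables (Or.inl (by simp))
theorem good_rGens {T : ℕ} (h : T ∈ rGens) : good T = true := good_tables (Or.inr (Or.inl h))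
theorem good_rTab {T : ℕ} (h : T ∈ rTab) : good T = true := good_tables (Or.inr (Or.inr (Or.inl h)))
theorem good_lamGens {T : ℕ} (h : T ∈ lamGens) : good T = true :=
  good_tables (Or.inr (Or.inr (Or.inr (Or.inl h))))
theorem good_lamTab {T : ℕ} (h : T ∈ lamTab) : good T = true :=
  good_tables (Or.inr (Or.inr (Or.inr (Or.inr (Or.inl h)))))
theorem good_sThree {T : ℕ} (h : T ∈ sThree) : good T = true :=
  good_tables (Or.inr (Or.inr (Or.inr (Or.inr (Or.inr (Or.inl h))))))
theorem good_lamFix {T : ℕ} (h : T ∈ lamFix) : good T = true :=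
  good_tables (Or.inr (Or.inr (Or.inr (Or.inr (Or.inr (Or.inr (Or.inl h)))))))
theorem good_ra {r : ℕ × List ℕ} (hr : r ∈ raGens) {T : ℕ} (h : T ∈ r.2) : good T = true :=
  good_tables (Or.inr (Or.inr (Or.inr (Or.inr (Or.inr (Or.inr (Or.inr (List.mem_flatMap.2 ⟨r, hr, h⟩))))))))
theorem good_pair {T : ℕ} (h : T ∈ [dT, sgT]) : good T = true := good_tables (Or.inl (by simp_all; tauto))

theorem zList_ev {s : ℕ} (hs : s ∈ zList) : ev s = true := List.all_eq_true.1 z_check.2.2.1 s hs

theorem zBas_ev {s : ℕ} (hs : s ∈ zBas) : ev s = true :=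
  zList_ev (List.contains_iff_mem.1 (List.all_eq_true.1 z_check.2.2.2.2.2.1 s hs))

theorem mem_zList {s : ℕ} : s ∈ zList ↔ s ∈ spanOf zBas :=
  ⟨fun h => List.contains_iff_mem.1 (List.all_eq_true.1 z_check.2.2.2.2.1 s h),
    fun h => List.contains_iff_mem.1 (List.all_eq_true.1 zspan_check.1 s h)⟩

theorem w9Bas_ev {b : ℕ} (hb : b ∈ w9Bas) : ev b = true := by
  have := List.all_eq_true.1 w_check.2.2.1 b hb
  rw [Bool.and_eq_true] at this
  exact this.1

variable {G : Type u} [Group G] [Finite G] {A : Type v} [Group A]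
variable {c : Ctx G A} {M W : Subgroup A} {h : Pkg c M W} {K : Subgroup G} {t : h.V}
variable (S : Setting h K t)

/-- The fixed space of the element of order three. -/
noncomputable abbrev Zg : Subgroup G := synGrp S zBas

/-- The sum of the parts of the cores. -/
noncomputable abbrev W9g : Subgroup G := synGrp S w9Bas

/-- The group of order 64. -/
noncomputable abbrev Rg : Subgroup G := tabGrp S rGens

/-- The group of order 168. -/
noncomputable abbrev Lam : Subgroup G := tabGrp S lamGens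

/-- The group of order six. -/
noncomputable abbrev S3g : Subgroup G := tabGrp S [dT, sgT]

theorem mem_Zg {x : G} : x ∈ Zg S ↔ ∃ s ∈ zList, S.F s = x := by
  rw [mem_synGrp S]
  simp only [mem_zList]

theorem card_Zg : Nat.card (Zg S) = 8 := by
  rw [card_synGrp S (fun _ => zBas_ev) zspan_check.2.1, zspan_check.2.2]
  rfl

theorem Zg_le_V : Zg S ≤ h.V := synGrp_le_V S _

theorem Zg_conj {x : G} (hx : x ∈ Zg S) (h1 : x ≠ 1) : IsConj c.z x := by
  obtain ⟨s, hs, rfl⟩ := (mem_Zg S).1 hx
  have h0 := List.all_eq_true.1 z_check.2.2.2.1 s hs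
  rw [Bool.or_eq_true, beq_iff_eq] at h0
  rcases h0 with e | e
  · exact absurd (by rw [e, S.F_zero]) h1
  · exact (S.F_isConj (zList_ev hs)).2 e

theorem Rg_mem {x : G} : x ∈ Rg S ↔ ∃ T ∈ rTab, lf S T = x :=
  mem_tabGrp S (fun _ hT => gd_of_good (good_rGens hT)) (fun _ hT => gd_of_good (good_rTab hT))
    closed_check.1 reach_check.1

theorem card_Rg : Nat.card (Rg S) = 64 := by
  rw [card_tabGrp S (fun _ hT => gd_of_good (good_rGens hT)) (fun _ hT => gd_of_good (good_rTab hT))
    closed_check.1 reach_check.1 closed_check.2.1, closed_check.2.2.1]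

theorem Lam_mem {x : G} : x ∈ Lam S ↔ ∃ T ∈ lamTab, lf S T = x :=
  mem_tabGrp S (fun _ hT => gd_of_good (good_lamGens hT)) (fun _ hT => gd_of_good (good_lamTab hT))
    closed_check.2.2.2.1 reach_check.2.1

theorem card_Lam : Nat.card (Lam S) = 168 := by
  rw [card_tabGrp S (fun _ hT => gd_of_good (good_lamGens hT)) (fun _ hT => gd_of_good (good_lamTab hT))
    closed_check.2.2.2.1 reach_check.2.1 closed_check.2.2.2.2.1, closed_check.2.2.2.2.2.1]

theorem S3g_mem {x : G} : x ∈ S3g S ↔ ∃ T ∈ sThree, lf S T = x :=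
  mem_tabGrp S (fun _ hT => gd_of_good (good_pair hT)) (fun _ hT => gd_of_good (good_sThree hT))
    closed_check.2.2.2.2.2.2.1 reach_check.2.2

theorem card_S3g : Nat.card (S3g S) = 6 := by
  rw [card_tabGrp S (fun _ hT => gd_of_good (good_pair hT)) (fun _ hT => gd_of_good (good_sThree hT))
    closed_check.2.2.2.2.2.2.1 reach_check.2.2 closed_check.2.2.2.2.2.2.2.1, closed_check.2.2.2.2.2.2.2.2]

theorem Rg_le_K : Rg S ≤ K := tabGrp_le_K S fun _ hT => gd_of_good (good_rGens hT)

theorem Lam_le_K : Lam S ≤ K := tabGrp_le_K S fun _ hT => gd_of_good (good_lamGens hT)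

theorem S3g_le_K : S3g S ≤ K := tabGrp_le_K S fun _ hT => gd_of_good (good_pair hT)

theorem cent_Zg_of_gens {gens : List ℕ} (hg : ∀ T ∈ gens, good T = true)
    (hfix : ∀ T ∈ gens, fixes T zList = true) : tabGrp S gens ≤ centralizer (Zg S : Set G) := by
  intro x hx
  rw [mem_centralizer_iff]
  intro y hy
  obtain ⟨s, hs, rfl⟩ := (mem_Zg S).1 hy
  exact (mem_centralizer_singleton_iff.1 (tabGrp_fix S hg (zList_ev hs)
    (fun T hT => beq_iff_eq.1 (List.all_eq_true.1 (hfix T hT) s hs)) hx)).symm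

theorem Rg_cent : Rg S ≤ centralizer (Zg S : Set G) :=
  cent_Zg_of_gens S (fun _ hT => good_rGens hT) fun T hT =>
    List.all_eq_true.1 z_check.2.2.2.2.2.2.2.2.2.1 T hT

theorem S3g_cent : S3g S ≤ centralizer (Zg S : Set G) :=
  cent_Zg_of_gens S (fun _ hT => good_pair hT) fun T hT => by
    simp only [List.mem_cons, List.not_mem_nil, or_false] at hT
    rcases hT with rfl | rfl
    exacts [z_check.2.2.2.2.2.2.2.1, z_check.2.2.2.2.2.2.2.2.1]

theorem V_cent_Zg : h.V ≤ centralizer (Zg S : Set G) := fun _ hx =>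
  mem_centralizer_iff.2 fun _ hy => h.V_comm (Zg_le_V S hy) hx

theorem lf_d_fixed {x : G} (hx : x ∈ h.V) (hd : lf S dT * x = x * lf S dT) : x ∈ Zg S := by
  obtain ⟨s, hs, rfl⟩ := S.exists_F hx
  have hl := (lf_fix S good_d hs).1 hd
  have hm := lin_mem_graph (gs := linGens dT) (by simp [linGens, basisE]) hs
  have h0 := List.all_eq_true.1 z_check.2.2.2.2.2.2.1 _ hm
  rw [hl] at h0
  simp only [beq_self_eq_true, Bool.not_true, Bool.false_or, List.contains_iff_mem] at h0
  exact (mem_Zg S).2 ⟨s, h0, rfl⟩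

theorem conj_synGrp {gens bs : List ℕ} (hb : ∀ b ∈ bs, ev b = true) (hg : ∀ T ∈ gens, good T = true)
    (hm : ∀ T ∈ gens, ∀ b ∈ bs, lin (linGens T) b ∈ spanOf bs) :
    tabGrp S gens ≤ normalizer (synGrp S bs : Set G) := by
  rw [tabGrp, closure_le]
  rintro x ⟨T, hT, rfl⟩
  refine mem_normalizer_fintype fun y hy => ?_
  refine conj_mem_closure ?_ hy
  rintro z ⟨b, hb', rfl⟩
  rw [(lf_conj S (hg T hT) (hb b hb')).2]
  exact (mem_synGrp S).2 ⟨_, hm T hT b hb', rfl⟩

theorem W9g_norm : Rg S ⊔ S3g S ⊔ Lam S ≤ normalizer (W9g S : Set G) := by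
  have key : ∀ T ∈ [dT, sgT] ++ rGens ++ lamGens, ∀ b ∈ w9Bas, lin (linGens T) b ∈ spanOf w9Bas := by
    intro T hT b hb
    exact List.contains_iff_mem.1 (List.all_eq_true.1 (List.all_eq_true.1 w9_check.1 T hT) b hb)
  refine sup_le (sup_le ?_ ?_) ?_
  · exact conj_synGrp S (fun _ => w9Bas_ev) (fun _ hT => good_rGens hT) fun T hT => key T (by simp [hT])
  · exact conj_synGrp S (fun _ => w9Bas_ev) (fun _ hT => good_pair hT) fun T hT => key T (List.mem_append_left _ (List.mem_append_left _ hT))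
  · exact conj_synGrp S (fun _ => w9Bas_ev) (fun _ hT => good_lamGens hT) fun T hT => key T (by simp [hT])

theorem Lam_norm_Zg : Lam S ≤ normalizer (Zg S : Set G) :=
  conj_synGrp S (fun _ => zBas_ev) (fun _ hT => good_lamGens hT) fun T hT b hb => by
    have hb' : b ∈ zList := List.contains_iff_mem.1 (List.all_eq_true.1 z_check.2.2.2.2.2.1 b hb)
    exact mem_zList.1 (List.contains_iff_mem.1
      (List.all_eq_true.1 (List.all_eq_true.1 z_check.2.2.2.2.2.2.2.2.2.2 T hT) b hb'))

end Cfsg.Agent.H98.JFour.Pentad
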