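import Cfsg.Agent.H98.JFour.Pentad.Groups
import Cfsg.Agent.H43.J4.Main

/-!
The involution in the centre of the centraliser of the element of order three: it centralises the group of order 8 and
lies outside the normaliser of `V`.
-/

set_option autoImplicit false
set_option linter.style.haveILetI false

namespace Cfsg.Agent.H98.JFour.Pentad

open Cfsg Cfsg.Agent.Golay Cfsg.Agent.H94.M24 Subgroup H43.JFour H38.JFour GolayTables

universe u v

variable {G : Type u} [Group G] [Finite G] {A : Type v} [Group A]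
variable {c : Ctx G A} {M W : Subgroup A} {h : Pkg c M W} {K : Subgroup G} {t : h.V}
variable (S : Setting h K t)

theorem gd_d : Gd dT := gd_of_good good_d

theorem gd_sg : Gd sgT := gd_of_good good_sg

theorem d_cube : lf S dT * lf S dT * lf S dT = 1 := by
  rw [← pow_three', ← lf_pow S gd_d, word_check.1, lf_one]

theorem d_ne : lf S dT ≠ 1 := fun e => word_check.2.1 ((lf_eq_one S gd_d).1 e)

theorem sg_sq : lf S sgT * lf S sgT = 1 := by
  rw [← lf_mul S gd_sg gd_sg, word_check.2.2.1, lf_one]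

theorem sg_inverts : lf S sgT * lf S dT * lf S sgT = lf S dT * lf S dT := by
  rw [← lf_mul S gd_sg gd_d, ← lf_mul S (gd_sg.mul gd_d) gd_sg, word_check.2.2.2.1, lf_mul S gd_d gd_d]

theorem d_Lam : Lam S ≤ centralizer ({lf S dT} : Set G) ⊓ centralizer ({lf S sgT} : Set G) := by
  rw [Lam, tabGrp, closure_le]
  rintro x ⟨T, hT, rfl⟩
  have h1 := List.all_eq_true.1 word_check.2.2.2.2.2.2.2.1 T hT
  simp only [Bool.and_eq_true, beq_iff_eq] at h1
  refine mem_inf.2 ⟨mem_centralizer_singleton_iff.2 ?_, mem_centralizer_singleton_iff.2 ?_⟩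
  · exact ((lf_comm S gd_d (gd_of_good (good_lamGens hT))).2 h1.1).symm
  · exact ((lf_comm S gd_sg (gd_of_good (good_lamGens hT))).2 h1.2).symm

/-- The involution in the centre of the centraliser of an element of order three. -/
theorem exists_central [IsSimpleGroup G] (hG : ¬ IsMulCommutative G) :
    ∃ u : G, u * u = 1 ∧ u ≠ 1 ∧ IsConj c.z u ∧ u * lf S dT = lf S dT * u ∧
      (∀ x, x * lf S dT = lf S dT * x → x * u = u * x) ∧ u * lf S sgT = lf S sgT * u := by
  haveI : Fact (Nat.Prime 3) := ⟨Nat.prime_three⟩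
  have hc := h.hc
  obtain ⟨p, hp, hp1⟩ := hc.exists_p
  have hop : orderOf p = 3 := orderOf_eq_prime (by rw [pow_three']; exact hc.P_pow hp) hp1
  have hod : orderOf (lf S dT) = 3 := orderOf_eq_prime (by rw [pow_three']; exact d_cube S) (d_ne S)
  obtain ⟨g, hg⟩ := isConj_iff.1 (Ctx.Ok.one_class hc h.hd hG hop hod)
  set de := lf S dT with hde
  have hzp : c.z * p = p * c.z := c.mem_H.1 (hc.P_le hp)
  have hzu : g * c.z * g⁻¹ * de = de * (g * c.z * g⁻¹) := by
    rw [← hg, show g * c.z * g⁻¹ * (g * p * g⁻¹) = g * (c.z * p) * g⁻¹ by group, hzp]; group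
  have hC : ∀ x, x * de = de * x → g⁻¹ * x * g ∈ c.C := by
    intro x hx
    rw [← hc.cent_P h.hd hG]
    refine mem_centralizer_iff.2 fun q hq => ?_
    have hpq : Commute p (g⁻¹ * x * g) := by
      show p * (g⁻¹ * x * g) = g⁻¹ * x * g * p
      calc p * (g⁻¹ * x * g) = g⁻¹ * (de * x) * g := by rw [← hg]; group
        _ = g⁻¹ * (x * de) * g := by rw [hx]
        _ = g⁻¹ * x * g * p := by rw [← hg]; group
    rcases hc.P_cases hp hp1 hq with rfl | rfl | rfl
    exacts [by rw [one_mul, mul_one], hpq.eq, (hpq.mul_left hpq).eq]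
  have hall : ∀ x, x * de = de * x → x * (g * c.z * g⁻¹) = (g * c.z * g⁻¹) * x := by
    intro x hx
    have h1 := c.mem_H.1 (mem_inf.1 (hC x hx)).1
    calc x * (g * c.z * g⁻¹) = g * ((g⁻¹ * x * g) * c.z) * g⁻¹ := by group
      _ = g * (c.z * (g⁻¹ * x * g)) * g⁻¹ := by rw [h1]
      _ = g * c.z * g⁻¹ * x := by group
  refine ⟨g * c.z * g⁻¹, ?_, fun e => hc.z_ne (conj_eq_one_iff.1 e), isConj_iff.2 ⟨g, rfl⟩, hzu, hall, ?_⟩
  · rw [show g * c.z * g⁻¹ * (g * c.z * g⁻¹) = g * (c.z * c.z) * g⁻¹ by group, hc.z_sq]; group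
  · set u := g * c.z * g⁻¹ with hu
    set s := lf S sgT with hs
    have hss : s * s = 1 := sg_sq S
    have hsinv : s⁻¹ = s := inv_eq_of_mul_eq_one_right hss
    have hd2 : Commute (de * de) u := ((show Commute de u from hzu.symm).mul_left hzu.symm)
    have hsd : s * de * s = de * de := sg_inverts S
    have hsd2 : s * (de * de) * s = de := by
      calc s * (de * de) * s = s * de * (s * s) * de * s := by rw [hss]; group
        _ = (s * de * s) * (s * de * s) := by group
        _ = de * de * (de * de) := by rw [hsd]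
        _ = de := by rw [show de * de * (de * de) = de * de * de * de by group, d_cube S, one_mul]
    have hcm : s * u * s * de = de * (s * u * s) := by
      calc s * u * s * de = s * u * s * (s * (de * de) * s) := by rw [hsd2]
        _ = s * u * (s * s) * (de * de) * s := by group
        _ = s * (u * (de * de)) * s := by rw [hss]; group
        _ = s * (de * de * u) * s := by rw [hd2.eq]
        _ = s * (de * de) * (s * s) * u * s := by rw [hss]; group
        _ = (s * (de * de) * s) * (s * u * s) := by group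
        _ = de * (s * u * s) := by rw [hsd2]
    have hcen : ∀ b ∈ c.C, b * (g⁻¹ * (s * u * s) * g) = g⁻¹ * (s * u * s) * g * b := by
      intro b hb
      have hbx : g * b * g⁻¹ * de = de * (g * b * g⁻¹) := by
        have hbp := mem_centralizer_iff.1 (mem_inf.1 hb).2 p hp
        rw [← hg, show g * b * g⁻¹ * (g * p * g⁻¹) = g * (b * p) * g⁻¹ by group, ← hbp]; group
      have hbx2 : Commute (g * b * g⁻¹) (de * de) :=
        ((show Commute (g * b * g⁻¹) de from hbx).mul_right hbx)
      have hy : s * (g * b * g⁻¹) * s * de = de * (s * (g * b * g⁻¹) * s) := by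
        calc s * (g * b * g⁻¹) * s * de = s * (g * b * g⁻¹) * s * (s * (de * de) * s) := by rw [hsd2]
          _ = s * (g * b * g⁻¹) * (s * s) * (de * de) * s := by group
          _ = s * ((g * b * g⁻¹) * (de * de)) * s := by rw [hss]; group
          _ = s * ((de * de) * (g * b * g⁻¹)) * s := by rw [hbx2.eq]
          _ = s * (de * de) * (s * s) * (g * b * g⁻¹) * s := by rw [hss]; group
          _ = (s * (de * de) * s) * (s * (g * b * g⁻¹) * s) := by group
          _ = de * (s * (g * b * g⁻¹) * s) := by rw [hsd2]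
      have h2 := hall _ hy
      calc b * (g⁻¹ * (s * u * s) * g)
          = g⁻¹ * ((g * b * g⁻¹) * (s * u * s)) * g := by group
        _ = g⁻¹ * (s * ((s * (g * b * g⁻¹) * s) * u) * s) * g := by
            rw [show s * ((s * (g * b * g⁻¹) * s) * u) * s = (s * s) * (g * b * g⁻¹) * (s * u * s) by group,
              hss, one_mul]
        _ = g⁻¹ * (s * (u * (s * (g * b * g⁻¹) * s)) * s) * g := by rw [h2]
        _ = g⁻¹ * ((s * u * s) * (g * b * g⁻¹) * (s * s)) * g := by group
        _ = g⁻¹ * (s * u * s) * g * b := by rw [hss]; group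
    obtain ⟨q, hq, e⟩ := hc.center_mem h.hd (hC _ hcm) hcen
    have hsq : g⁻¹ * (s * u * s) * g * (g⁻¹ * (s * u * s) * g) = 1 := by
      rw [show g⁻¹ * (s * u * s) * g * (g⁻¹ * (s * u * s) * g) = g⁻¹ * (s * u * (s * s) * u * s) * g by group,
        hss, mul_one, mul_assoc s u u, show u * u = 1 by
          rw [hu, show g * c.z * g⁻¹ * (g * c.z * g⁻¹) = g * (c.z * c.z) * g⁻¹ by group, hc.z_sq]; group,
        mul_one, hss]
      group
    have hq1 : q * q = 1 := by
      rcases e with e | e <;> rw [e] at hsq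
      · exact hsq
      · have hzq : c.z * q = q * c.z := c.mem_H.1 (hc.P_le hq)
        rw [show c.z * q * (c.z * q) = c.z * (q * c.z) * q by group, ← hzq,
          show c.z * (c.z * q) * q = c.z * c.z * (q * q) by group, hc.z_sq, one_mul] at hsq
        exact hsq
    have hq0 : q = 1 := by
      have := hc.P_pow hq
      rwa [hq1, one_mul] at this
    have hne : s * u * s ≠ 1 := fun e1 => by
      have : u = 1 := by
        calc u = (s * s) * u * (s * s) := by rw [hss]; group
          _ = s * (s * u * s) * s := by group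
          _ = 1 := by rw [e1, mul_one, hss]
      exact hc.z_ne (conj_eq_one_iff.1 this)
    rw [hq0, mul_one] at e
    have hsu : s * u * s = u := by
      rcases e with e | e
      · refine absurd ?_ hne
        calc s * u * s = g * (g⁻¹ * (s * u * s) * g) * g⁻¹ := by group
          _ = 1 := by rw [e]; group
      · calc s * u * s = g * (g⁻¹ * (s * u * s) * g) * g⁻¹ := by group
          _ = u := by rw [e]
    calc u * s = (s * s) * u * s := by rw [hss, one_mul]
      _ = s * (s * u * s) := by group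
      _ = s * u := by rw [hsu]

/-- The only permutation of the group commuting with the three pieces of the model is trivial. -/
theorem perm_trivial {π : Equiv.Perm GolayPt}
    (hd : π * mkPerm dT = mkPerm dT * π) (hs : π * mkPerm sgT = mkPerm sgT * π)
    (hl : ∀ T ∈ lamTab, π * mkPerm T = mkPerm T * π) : π = 1 := by
  obtain ⟨h3, hfix, hd01, hd12, hs0, hs1, hs2, hcov⟩ := pts_check
  have vd := (gd_of_good good_d).valid
  have vs := (gd_of_good good_sg).valid
  have v7 := (gd_of_good good_s).valid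
  have hsT : sT ∈ lamTab := List.contains_iff_mem.1 word_check.2.2.2.2.2.2.1
  have hcm : ∀ {σ : Equiv.Perm GolayPt}, π * σ = σ * π → ∀ p, π (σ p) = σ (π p) := fun e p => by
    rw [← Equiv.Perm.mul_apply, e, Equiv.Perm.mul_apply]
  have hbound : ∀ i ∈ fixPts, i < 24 := by decide
  have hmem : ∀ i ∈ fixPts, ∃ j ∈ fixPts, π (pt i) = pt j := by
    intro i hi
    refine ⟨idx (π (pt i)), ?_, (pt_idx _).symm⟩
    have e : mkPerm sT (π (pt i)) = π (pt i) := by
      rw [← hcm (hl _ hsT), mkPerm_pt v7 (hbound i hi)]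
      have := List.all_eq_true.1 hfix i (List.mem_range.2 (hbound i hi))
      rw [List.contains_iff_mem.2 hi, beq_true, beq_iff_eq] at this
      rw [this]
    rw [mkPerm_apply v7] at e
    have e' := List.all_eq_true.1 hfix _ (List.mem_range.2 (idx_lt (π (pt i))))
    have happ : app sT (idx (π (pt i))) = idx (π (pt i)) := by
      have e2 := congrArg idx e
      rwa [idx_pt _ ((validT_bijective v7).2 _ (idx_lt _))] at e2
    rw [happ, beq_self_eq_true] at e'
    exact List.contains_iff_mem.1 (beq_iff_eq.1 e').symm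
  have hlist : fixPts = [fixPts.getD 0 0, fixPts.getD 1 0, fixPts.getD 2 0] := rfl
  set f0 := fixPts.getD 0 0 with hf0
  set f1 := fixPts.getD 1 0 with hf1
  set f2 := fixPts.getD 2 0 with hf2
  have hm : ∀ j, j ∈ fixPts ↔ j = f0 ∨ j = f1 ∨ j = f2 := fun j => by
    rw [hlist]; simp
  have h0 : π (pt f0) = pt f0 := by
    obtain ⟨j, hj, e⟩ := hmem f0 ((hm _).2 (Or.inl rfl))
    have e1 : mkPerm sgT (pt f0) = pt f0 := by rw [mkPerm_pt vs (hbound _ ((hm _).2 (Or.inl rfl))), hs0]
    have e2 := hcm hs (pt f0)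
    rw [e1, e, mkPerm_pt vs (hbound j hj)] at e2
    have e3 : app sgT j = j := ((pt_inj ((validT_bijective vs).2 _ (hbound j hj)) (hbound j hj)).1 e2.symm)
    rcases (hm j).1 hj with rfl | rfl | rfl
    exacts [e, absurd e3 hs1, absurd e3 hs2]
  have h1 : π (pt f1) = pt f1 := by
    rw [← hd01, ← mkPerm_pt vd (hbound _ ((hm _).2 (Or.inl rfl))), hcm hd, h0]
  have h2 : π (pt f2) = pt f2 := by
    rw [← hd12, ← mkPerm_pt vd (hbound _ ((hm _).2 (Or.inr (Or.inl rfl)))), hcm hd, h1]
  ext p : 1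
  have hc := List.all_eq_true.1 hcov (idx p) (List.mem_range.2 (idx_lt p))
  simp only [List.any_eq_true, beq_iff_eq] at hc
  obtain ⟨l, hlT, f, hf, e⟩ := hc
  have hp : mkPerm l (pt f) = p := by
    rw [mkPerm_pt (gd_of_good (good_lamTab hlT)).valid (hbound f hf), e, pt_idx]
  rw [← hp, hcm (hl l hlT), Equiv.Perm.one_apply]
  rcases (hm f).1 hf with rfl | rfl | rfl
  exacts [by rw [h0], by rw [h1], by rw [h2]]

/-- The central involution lies outside `N(V)`. -/
theorem exists_outside [IsSimpleGroup G] (hG : ¬ IsMulCommutative G) :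
    ∃ u : G, u ∈ centralizer (Zg S : Set G) ∧ u ∉ normalizer (h.V : Set G) := by
  obtain ⟨u, -, hu1, -, hud, hall, hus⟩ := exists_central S hG
  have hfixd : fixes dT zList = true := z_check.2.2.2.2.2.2.2.1
  have hdZ : ∀ y ∈ Zg S, y * lf S dT = lf S dT * y := by
    intro y hy
    obtain ⟨s, hs, rfl⟩ := (mem_Zg S).1 hy
    exact ((lf_fix S good_d (zList_ev hs)).2 (beq_iff_eq.1 (List.all_eq_true.1 hfixd s hs))).symm
  refine ⟨u, mem_centralizer_iff.2 fun y hy => hall y (hdZ y hy), fun huN => ?_⟩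
  obtain ⟨v, hv, k, hk, rfl⟩ := S.hK.decomp huN
  have hcomm : ∀ x ∈ K, x * (v * k) = v * k * x → x * v = v * x ∧ x * k = k * x := by
    intro x hx e
    have hxv : x * v * x⁻¹ ∈ h.V := (mem_normalizer_iff.1 (S.hK.le hx) v).1 hv
    have e' : x * v * x⁻¹ * (x * k * x⁻¹) = v * k := by
      rw [show x * v * x⁻¹ * (x * k * x⁻¹) = x * (v * k) * x⁻¹ by group, e, mul_inv_cancel_right]
    obtain ⟨e1, e2⟩ := S.hK.unique hxv hv (mul_mem (mul_mem hx hk) (inv_mem hx)) hk e'
    exact ⟨mul_inv_eq_iff_eq_mul.1 e1, mul_inv_eq_iff_eq_mul.1 e2⟩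
  obtain ⟨hdv, hdk⟩ := hcomm _ (lf_K S gd_d) hud.symm
  obtain ⟨-, hsk⟩ := hcomm _ (lf_K S gd_sg) hus.symm
  have hlam : ∀ T ∈ lamTab, lf S T * (v * k) = v * k * lf S T := fun T hT =>
    hall _ (mem_centralizer_singleton_iff.1
      (mem_inf.1 (d_Lam S ((Lam_mem S).2 ⟨T, hT, rfl⟩))).1)
  set kk : ↥(normalizer (h.V : Set G)) := ⟨k, S.hK.le hk⟩ with hkk
  have hperm : ∀ {T : ℕ}, Gd T → lf S T * k = k * lf S T →
      ((S.Φ kk : ↥Cfsg.M24) : Equiv.Perm GolayPt) * mkPerm T =
        mkPerm T * ((S.Φ kk : ↥Cfsg.M24) : Equiv.Perm GolayPt) := by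
    intro T hT e
    obtain ⟨n, en, -, hn⟩ := lf_spec S hT
    have h' : n * kk = kk * n := Subtype.ext (by
      show (n : G) * k = k * n
      rw [en]; exact e)
    rw [← hn, ← Subgroup.coe_mul, ← map_mul, ← h', map_mul, Subgroup.coe_mul]
  have h1 := perm_trivial (hperm gd_d hdk) (hperm gd_sg hsk) fun T hT =>
    hperm (gd_of_good (good_lamTab hT)) (hcomm _ (lf_K S (gd_of_good (good_lamTab hT))) (hlam T hT)).2
  have hkV : k ∈ h.V := (S.Φ_ker kk).1 (Subtype.ext h1)
  have hk1 : k = 1 := by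
    have : k ∈ K ⊓ h.V := mem_inf.2 ⟨hk, hkV⟩
    rwa [S.hK.inf, mem_bot] at this
  subst hk1
  rw [mul_one] at hu1
  have hvZ : v ∈ Zg S := lf_d_fixed S hv hdv
  obtain ⟨s, hs, rfl⟩ := (mem_Zg S).1 hvZ
  have hs0 : s ≠ 0 := fun e => hu1 (by rw [e, S.F_zero])
  have h2 := List.all_eq_true.1 lam_check.2.1 s hs
  simp only [Bool.or_eq_true, beq_iff_eq, List.any_eq_true, Bool.not_eq_true', beq_eq_false_iff_ne] at h2
  obtain ⟨l, hl, hl'⟩ := h2.resolve_left hs0
  refine hl' ((lf_fix S (good_lamGens hl) (zList_ev hs)).1 ?_)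
  have h3 := hall _ (mem_centralizer_singleton_iff.1 (mem_inf.1 (d_Lam S (lf_mem_tabGrp S hl))).1)
  simpa using h3

end Cfsg.Agent.H98.JFour.Pentad
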