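import Cfsg.Agent.H98.JFour.TwoCore
import Cfsg.Agent.H54.JFour.FiveCount

/-!
The centraliser of two commuting conjugates of the involution, one in the core of the other.
-/

set_option autoImplicit false

namespace Cfsg.Agent.H98.JFour.Pentad

open Subgroup Cfsg.Agent.H43.JFour Cfsg.Agent.H43.JFour.Ctx

universe u v

variable {G : Type u} [Group G] [Finite G] {A : Type v} [Group A] {M : Subgroup A} {c : Ctx G A}

/-- The centraliser of such a pair has order `2 ^ 20 * 15`. -/
theorem card_two_point (hc : c.Ok) (hd : AutData A M) (hE : IsCore c) {a b : G} (ha : IsConj c.z a)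
    (hb : IsConj c.z b) (hne : b ≠ a) (hba : b ∈ Cfsg.twoCoreOfCentralizer a) :
    Nat.card ↥(centralizer ({a} : Set G) ⊓ centralizer ({b} : Set G)) = 2 ^ 20 * 15 := by
  obtain ⟨e, heOk, rfl, heE⟩ := exists_ctx_at hc hE ha
  obtain ⟨g, hgOk, rfl, -⟩ := exists_ctx_at hc hE hb
  have π : Duo e g := ⟨heOk, hgOk, heE ▸ hba, hne⟩
  obtain ⟨x, p, t⟩ := heOk.exists_trip hd
  obtain ⟨hStb, -⟩ := π.main hd t
  haveI := hd.finite
  have hidx : π.Stb.index = 231 := by rw [hStb, hd.R_index _ ((π.symm hd).isR hd)]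
  have h2 := π.Stb.card_mul_index
  rw [hidx, hd.card] at h2
  show Nat.card ↥(e.H ⊓ g.H) = _
  rw [π.card_inf_H]
  omega

end Cfsg.Agent.H98.JFour.Pentad
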