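import Cfsg.Agent.H98.JFour.Pentad.Core
import Cfsg.Agent.H98.JFour.Pentad.Invol
import Cfsg.Agent.H98.JFour.Pentad.TwoPoint

/-!
The centraliser of the group of order 8 has order `2 ^ 18 * 15` and meets the normaliser of `V` with index five.
-/

set_option autoImplicit false
set_option linter.style.haveILetI false

namespace Cfsg.Agent.H98.JFour.Pentad

open Cfsg Cfsg.Agent.Golay Cfsg.Agent.H94.M24 Subgroup H43.JFour H38.JFour GolayTables

universe u v

theorem fix_check : closedUnder lamFix lamFix = true ∧ reach lamFix lamFix = true := by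
  decide +kernel

theorem card_sup_disjoint {G : Type*} [Group G] [Finite G] {X Y : Subgroup G}
    (hn : Y ≤ normalizer (X : Set G)) (hd : X ⊓ Y = ⊥) :
    Nat.card ↥(X ⊔ Y) = Nat.card X * Nat.card Y := by
  rw [← Nat.card_prod]
  symm
  refine Nat.card_eq_of_bijective
    (fun p => (⟨p.1 * p.2, mul_mem (mem_sup_left p.1.2) (mem_sup_right p.2.2)⟩ : ↥(X ⊔ Y))) ⟨?_, ?_⟩
  · rintro ⟨x, y⟩ ⟨x', y'⟩ e
    have e' : (x : G) * y = x' * y' := congrArg Subtype.val e
    have e1 : (x' : G)⁻¹ * x = y' * (y : G)⁻¹ := by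
      calc (x' : G)⁻¹ * x = (x' : G)⁻¹ * (x * y) * (y : G)⁻¹ := by group
        _ = y' * (y : G)⁻¹ := by rw [e']; group
    have hm : (x' : G)⁻¹ * x ∈ X ⊓ Y :=
      mem_inf.2 ⟨mul_mem (inv_mem x'.2) x.2, e1 ▸ mul_mem y'.2 (inv_mem y.2)⟩
    rw [hd, mem_bot] at hm
    have hxx : x = x' := Subtype.ext (inv_mul_eq_one.1 hm).symm
    subst hxx
    exact Prod.ext rfl (Subtype.ext (mul_left_cancel e'))
  · intro z
    obtain ⟨x, hx, y, hy, e⟩ := exists_mul_of_mem_sup hn z.2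
    exact ⟨(⟨x, hx⟩, ⟨y, hy⟩), Subtype.ext e.symm⟩

variable {G : Type u} [Group G] [Finite G] {A : Type v} [Group A]
variable {c : Ctx G A} {M W : Subgroup A} {h : Pkg c M W} {K : Subgroup G} {t : h.V}
variable (S : Setting h K t)

/-- The group of order 384. -/
noncomputable abbrev Ksub : Subgroup G := Rg S ⊔ S3g S

theorem norm_tab {T : ℕ} (hT : good T = true) (hn : normalises rTab rGens T = true) :
    lf S T ∈ normalizer (Rg S : Set G) := by
  refine mem_normalizer_fintype fun y hy => conj_mem_closure ?_ hy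
  rintro z ⟨g, hg, rfl⟩
  have h1 := List.all_eq_true.1 hn g hg
  simp only [List.any_eq_true, beq_iff_eq] at h1
  obtain ⟨g', hg', e⟩ := h1
  have e' : lf S T * lf S g = lf S g' * lf S T := by
    rw [← lf_mul S (gd_of_good hT) (gd_of_good (good_rGens hg)),
      ← lf_mul S (gd_of_good (good_rTab hg')) (gd_of_good hT), e]
  rw [e', mul_inv_cancel_right]
  exact (Rg_mem S).2 ⟨g', hg', rfl⟩

theorem S3g_norm_Rg : S3g S ≤ normalizer (Rg S : Set G) := by
  rw [S3g, tabGrp, closure_le]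
  rintro x ⟨T, hT, rfl⟩
  refine norm_tab S (good_pair hT) ?_
  simp only [List.mem_cons, List.not_mem_nil, or_false] at hT
  rcases hT with rfl | rfl
  exacts [norm_check.1, norm_check.2.1]

theorem Rg_inf_S3g : Rg S ⊓ S3g S = ⊥ := by
  rw [eq_bot_iff]
  intro x hx
  obtain ⟨T, hT, rfl⟩ := (S3g_mem S).1 (mem_inf.1 hx).2
  obtain ⟨U, hU, e⟩ := (Rg_mem S).1 (mem_inf.1 hx).1
  have eUT := lf_inj S (gd_of_good (good_rTab hU)) (gd_of_good (good_sThree hT)) e
  have h1 := List.all_eq_true.1 word_check.2.2.2.2.2.2.2.2.2.2.2 T hT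
  simp only [Bool.or_eq_true, beq_iff_eq, Bool.not_eq_true'] at h1
  rcases h1 with h1 | h1
  · rw [mem_bot, h1, lf_one]
  · rw [List.contains_iff_mem.2 (eUT ▸ hU)] at h1
    exact absurd h1 (by simp)

theorem card_Ksub : Nat.card (Ksub S) = 384 := by
  rw [card_sup_disjoint (S3g_norm_Rg S) (Rg_inf_S3g S), card_Rg, card_S3g]

theorem Ksub_le_K : Ksub S ≤ K := sup_le (Rg_le_K S) (S3g_le_K S)

/-- The part of `N(V)` centralising the group of order 8 contains this. -/
theorem card_VK : Nat.card ↥(h.V ⊔ Ksub S) = 2 ^ 18 * 3 := by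
  rw [card_sup_disjoint ((Ksub_le_K S).trans S.hK.le)
    (le_bot_iff.1 ((inf_le_inf_left _ (Ksub_le_K S)).trans (inf_comm h.V K ▸ S.hK.inf.le))),
    h.card_V, card_Ksub]
  norm_num

theorem VK_le : h.V ⊔ Ksub S ≤ centralizer (Zg S : Set G) ⊓ normalizer (h.V : Set G) :=
  sup_le (le_inf (V_cent_Zg S) le_normalizer)
    (le_inf (sup_le (Rg_cent S) (S3g_cent S)) ((Ksub_le_K S).trans S.hK.le))

omit [Finite G] in
theorem cent_normal {Z : Subgroup G} {g : G} (hg : g ∈ normalizer (Z : Set G)) :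
    g ∈ normalizer (centralizer (Z : Set G) : Set G) := by
  have key : ∀ {g : G}, g ∈ normalizer (Z : Set G) → ∀ x ∈ centralizer (Z : Set G),
      g * x * g⁻¹ ∈ centralizer (Z : Set G) := by
    intro g hg x hx
    refine mem_centralizer_iff.2 fun z hz => ?_
    have hz' : g⁻¹ * z * g ∈ Z := by simpa using (mem_normalizer_iff.1 (inv_mem hg) z).1 hz
    calc z * (g * x * g⁻¹) = g * ((g⁻¹ * z * g) * x) * g⁻¹ := by group
      _ = g * (x * (g⁻¹ * z * g)) * g⁻¹ := by rw [mem_centralizer_iff.1 hx _ hz']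
      _ = g * x * g⁻¹ * z := by group
  refine mem_normalizer_iff.2 fun x => ⟨key hg x, fun hx => ?_⟩
  have := key (inv_mem hg) _ hx
  simpa [mul_assoc] using this

theorem Lam_inf_cent : Lam S ⊓ centralizer (Zg S : Set G) = ⊥ := by
  rw [eq_bot_iff]
  intro x hx
  obtain ⟨T, hT, rfl⟩ := (Lam_mem S).1 (mem_inf.1 hx).1
  have h1 := List.all_eq_true.1 lam_check.1 T hT
  simp only [Bool.or_eq_true, beq_iff_eq, Bool.not_eq_true'] at h1
  rcases h1 with h1 | h1
  · rw [mem_bot, h1, lf_one]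
  · exfalso
    refine Bool.eq_false_iff.1 h1 (List.all_eq_true.2 fun s hs => beq_iff_eq.2 ?_)
    exact (lf_fix S (good_lamTab hT) (zBas_ev hs)).1
      (mem_centralizer_iff.1 (mem_inf.1 hx).2 _ (F_mem_synGrp S hs)).symm

theorem Zg_le_core {a : G} (ha : a ∈ Zg S) (h1 : a ≠ 1) : Zg S ≤ Cfsg.twoCoreOfCentralizer a := by
  obtain ⟨r, hr, rfl, hev⟩ := exists_wBases S ha h1
  intro x hx
  refine (mem_inf.1 (?_ : x ∈ h.V ⊓ Cfsg.twoCoreOfCentralizer (S.F r.1))).2
  rw [← synGrp_wBases S hr hev (Zg_conj S ha h1)]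
  refine (closure_le _).2 ?_ hx
  rintro _ ⟨b, hb, rfl⟩
  exact (mem_synGrp S).2 ⟨b, (wBases_spec hr).2.2.2 b hb, rfl⟩

/-- The order of the centraliser and of its part in `N(V)`. -/
theorem card_cent [IsSimpleGroup G] (hG : ¬ IsMulCommutative G) :
    Nat.card ↥(centralizer (Zg S : Set G)) = 2 ^ 18 * 15 ∧
    centralizer (Zg S : Set G) ⊓ normalizer (h.V : Set G) = h.V ⊔ Ksub S := by
  set CZ := centralizer (Zg S : Set G) with hCZ
  have hsub : ∀ T ∈ lamFix, T ∈ lamTab := fun T hT =>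
    List.contains_iff_mem.1 (List.all_eq_true.1 lam_check.2.2.2.2.1 T hT)
  set LF := tabGrp S lamFix with hLF
  have hLFle : LF ≤ Lam S := by
    rw [hLF, tabGrp, closure_le]
    rintro x ⟨T, hT, rfl⟩
    exact (Lam_mem S).2 ⟨T, hsub T hT, rfl⟩
  have hcardLF : Nat.card LF = 4 := by
    rw [hLF, card_tabGrp S (fun _ hT => gd_of_good (good_lamFix hT))
      (fun _ hT => gd_of_good (good_lamFix hT)) fix_check.1 fix_check.2 lam_check.2.2.1,
      lam_check.2.2.2.1]
  have hz : ∀ s ∈ zBas.take 2, S.F s ∈ Zg S ∧ S.F s ≠ 1 := by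
    intro s hs
    have hs' : s ∈ zBas := List.mem_of_mem_take hs
    refine ⟨F_mem_synGrp S hs', fun e => ?_⟩
    have h0 := (S.F_eq_one (zBas_ev hs')).1 e
    subst h0
    revert hs'
    decide
  set a := S.F 29 with ha
  set b := S.F 142 with hb
  obtain ⟨haZ, ha1⟩ := hz 29 (by decide)
  obtain ⟨hbZ, hb1⟩ := hz 142 (by decide)
  have hne : b ≠ a := fun e => by
    have := S.F_inj (zList_ev (s := 142) (by decide)) (zList_ev (s := 29) (by decide)) e
    omega
  have hX := card_two_point h.hc h.hd S.hE (Zg_conj S haZ ha1) (Zg_conj S hbZ hb1) hne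
    (Zg_le_core S haZ ha1 hbZ)
  have hfixT : ∀ T ∈ lamFix, ∀ s ∈ zBas.take 2, lf S T * S.F s = S.F s * lf S T := fun T hT s hs =>
    (lf_fix S (good_lamFix hT) (zBas_ev (List.mem_of_mem_take hs))).2
      (beq_iff_eq.1 (List.all_eq_true.1 (List.all_eq_true.1 lam_check.2.2.2.2.2 T hT) s hs))
  have hle : CZ ⊔ LF ≤ centralizer ({a} : Set G) ⊓ centralizer ({b} : Set G) := by
    refine sup_le (le_inf (centralizer_le (Set.singleton_subset_iff.2 haZ))
      (centralizer_le (Set.singleton_subset_iff.2 hbZ))) ?_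
    rw [hLF, tabGrp, closure_le]
    rintro x ⟨T, hT, rfl⟩
    exact mem_inf.2 ⟨mem_centralizer_singleton_iff.2 (hfixT T hT 29 (by decide)),
      mem_centralizer_singleton_iff.2 (hfixT T hT 142 (by decide))⟩
  have hsup : Nat.card ↥(CZ ⊔ LF) = Nat.card CZ * 4 := by
    rw [card_sup_disjoint (fun x hx => cent_normal (Lam_norm_Zg S (hLFle hx)))
      (le_bot_iff.1 ((inf_le_inf_left _ hLFle).trans (inf_comm CZ (Lam S) ▸ (Lam_inf_cent S).le))),
      hcardLF]
  have hdvd : Nat.card CZ * 4 ∣ 2 ^ 20 * 15 := hX ▸ hsup ▸ card_dvd_of_le hle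
  set CN := CZ ⊓ normalizer (h.V : Set G) with hCN
  have hlow : 2 ^ 18 * 3 ∣ Nat.card CN := card_VK S ▸ card_dvd_of_le (VK_le S)
  have hmid : Nat.card CN ∣ Nat.card CZ := card_dvd_of_le inf_le_left
  have hproper : Nat.card CN ≠ Nat.card CZ := fun e => by
    obtain ⟨u, hu, hun⟩ := exists_outside S hG
    have heq : CN = CZ := Subgroup.eq_of_le_of_card_ge inf_le_left e.ge
    exact hun (mem_inf.1 (heq.symm ▸ hu : u ∈ CN)).2
  obtain ⟨k, hk⟩ := hlow
  obtain ⟨m, hm⟩ := hmid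
  rw [hm, hk] at hdvd
  have hkm : k * m ∣ 5 := by
    have h' : 2 ^ 20 * 3 * (k * m) ∣ 2 ^ 20 * 3 * 5 := by
      rw [show 2 ^ 20 * 3 * (k * m) = 2 ^ 18 * 3 * k * m * 4 by ring,
        show 2 ^ 20 * 3 * 5 = 2 ^ 20 * 15 by norm_num]
      exact hdvd
    exact Nat.dvd_of_mul_dvd_mul_left (by norm_num) h'
  rcases (Nat.dvd_prime (by norm_num : Nat.Prime 5)).1 hkm with e | e
  · obtain ⟨hk1, hm1⟩ := mul_eq_one.1 e
    exact absurd (by rw [hm, hm1, mul_one]) hproper
  · have hk5 : k ∣ 5 := Dvd.intro m e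
    rcases (Nat.dvd_prime (by norm_num : Nat.Prime 5)).1 hk5 with hk1 | hk1
    · subst hk1
      rw [one_mul] at e
      refine ⟨by rw [hm, hk, e]; norm_num,
        (Subgroup.eq_of_le_of_card_ge (VK_le S) (by rw [card_VK, ← hCN, hk, mul_one])).symm⟩
    · exfalso
      rw [hk1] at e
      exact hproper (by rw [hm, show m = 1 by omega, mul_one])

end Cfsg.Agent.H98.JFour.Pentad
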