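import Cfsg.Agent.H98.JFour.Pentad.Checks
import Cfsg.Agent.H38.JFour.Records

/-!
Elements of the complement attached to tables, and the subgroups attached to lists of tables and of syndromes.
-/

set_option autoImplicit false
set_option linter.style.haveILetI false

namespace Cfsg.Agent.H98.JFour.Pentad

open Cfsg Cfsg.Agent.Golay Cfsg.Agent.H94.M24 Subgroup H43.JFour H38.JFour GolayTables

universe u v

/-- A table in normal form of an element of the group. -/
def Gd (T : ℕ) : Prop := canonT T = true ∧ mkPerm T ∈ Cfsg.M24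

theorem Gd.valid {T : ℕ} (h : Gd T) : validT T = true := canonT_validT h.1

theorem Gd.mul {A B : ℕ} (hA : Gd A) (hB : Gd B) : Gd (tblMul A B) :=
  ⟨canonT_tblMul hA.valid hB.valid, by
    rw [(tblMul_spec hA.valid hB.valid).2]; exact mul_mem hA.2 hB.2⟩

theorem Gd.ext {A B : ℕ} (hA : Gd A) (hB : Gd B) (e : mkPerm A = mkPerm B) : A = B := by
  rw [← tblOf_mkPerm hA.1, e, tblOf_mkPerm hB.1]

theorem gd_id : Gd idTblVal := by
  refine ⟨by decide +kernel, ?_⟩
  rw [idTblVal_spec.2]; exact one_mem _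

theorem gd_of_good {T : ℕ} (h : good T = true) : Gd T := by
  simp only [good, Bool.and_eq_true] at h
  exact ⟨h.1.1, mem_M24_of_inM24 h.1.2⟩

theorem Gd.pow {T : ℕ} (h : Gd T) : ∀ n, Gd (powT n T)
  | 0 => gd_id
  | n + 1 => h.mul (h.pow n)

/-- Every entry of a list is an earlier one times a generator. -/
def reach (L gens : List ℕ) : Bool :=
  (L.getD 0 0 == idTblVal) && (List.range L.length).all fun i =>
    i == 0 || (List.range i).any fun j => gens.any fun g => tblMul (L.getD j 0) g == L.getD i 0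

theorem reach_check : reach rTab rGens = true ∧ reach lamTab lamGens = true ∧
    reach sThree [dT, sgT] = true := by
  decide +kernel

variable {G : Type u} [Group G] [Finite G] {A : Type v} [Group A]
variable {c : Ctx G A} {M W : Subgroup A} {h : Pkg c M W} {K : Subgroup G} {t : h.V}
variable (S : Setting h K t)

open Classical in
/-- The element of the complement of a table. -/
noncomputable def lf (T : ℕ) : G :=
  if hT : mkPerm T ∈ Cfsg.M24 then ((S.exists_lift ⟨mkPerm T, hT⟩).choose : G) else 1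

theorem lf_spec {T : ℕ} (hT : Gd T) :
    ∃ n : ↥(normalizer (h.V : Set G)), (n : G) = lf S T ∧ (n : G) ∈ K ∧
      ((S.Φ n : ↥Cfsg.M24) : Equiv.Perm GolayPt) = mkPerm T := by
  rw [lf, dif_pos hT.2]
  refine ⟨_, rfl, (S.exists_lift ⟨mkPerm T, hT.2⟩).choose_spec.1, ?_⟩
  rw [(S.exists_lift ⟨mkPerm T, hT.2⟩).choose_spec.2]

theorem lf_K {T : ℕ} (hT : Gd T) : lf S T ∈ K := by
  obtain ⟨n, e, hn, -⟩ := lf_spec S hT
  rwa [← e]

theorem lf_N {T : ℕ} (hT : Gd T) : lf S T ∈ normalizer (h.V : Set G) := S.hK.le (lf_K S hT)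

theorem lf_eq {T : ℕ} (hT : Gd T) {k : ↥(normalizer (h.V : Set G))} (hk : (k : G) ∈ K)
    (e : ((S.Φ k : ↥Cfsg.M24) : Equiv.Perm GolayPt) = mkPerm T) : lf S T = k := by
  obtain ⟨n, en, hn, hn'⟩ := lf_spec S hT
  rw [← en, S.Φ_inj_K hn hk (Subtype.ext (hn'.trans e.symm))]

theorem lf_mul {T U : ℕ} (hT : Gd T) (hU : Gd U) : lf S (tblMul T U) = lf S T * lf S U := by
  obtain ⟨n, en, hn, hn'⟩ := lf_spec S hT
  obtain ⟨m, em, hm, hm'⟩ := lf_spec S hU
  rw [← en, ← em, ← Subgroup.coe_mul]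
  refine lf_eq S (hT.mul hU) (mul_mem hn hm) ?_
  rw [map_mul, Subgroup.coe_mul, hn', hm', (tblMul_spec hT.valid hU.valid).2]

theorem lf_one : lf S idTblVal = 1 :=
  lf_eq S gd_id (k := 1) (one_mem _) (by rw [map_one, idTblVal_spec.2]; rfl)

theorem lf_inj {T U : ℕ} (hT : Gd T) (hU : Gd U) (e : lf S T = lf S U) : T = U := by
  obtain ⟨n, en, -, hn'⟩ := lf_spec S hT
  obtain ⟨m, em, -, hm'⟩ := lf_spec S hU
  have : n = m := Subtype.ext (en.trans (e.trans em.symm))
  exact hT.ext hU (by rw [← hn', ← hm', this])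

theorem lf_eq_one {T : ℕ} (hT : Gd T) : lf S T = 1 ↔ T = idTblVal :=
  ⟨fun e => lf_inj S hT gd_id (e.trans (lf_one S).symm), fun e => e ▸ lf_one S⟩

theorem lf_pow {T : ℕ} (hT : Gd T) : ∀ n, lf S (powT n T) = lf S T ^ n
  | 0 => by rw [powT, pow_zero, lf_one]
  | n + 1 => by rw [powT, lf_mul S hT (hT.pow n), lf_pow hT n, pow_succ']

theorem lf_comm {T U : ℕ} (hT : Gd T) (hU : Gd U) :
    lf S T * lf S U = lf S U * lf S T ↔ tblMul T U = tblMul U T := by
  rw [← lf_mul S hT hU, ← lf_mul S hU hT]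
  exact ⟨lf_inj S (hT.mul hU) (hU.mul hT), congrArg _⟩

theorem lf_maps {T : ℕ} (hT : good T = true) : S.Maps (lf S T) (linGens T) := by
  have h1 := hT
  simp only [good, Bool.and_eq_true] at h1
  obtain ⟨n, en, -, hn'⟩ := lf_spec S (gd_of_good hT)
  rw [← en]
  exact (S.maps_of_table (gd_of_good hT).valid hn'.symm h1.2).1

theorem lf_conj {T : ℕ} (hT : good T = true) {s : ℕ} (hs : ev s = true) :
    ev (lin (linGens T) s) = true ∧ lf S T * S.F s * (lf S T)⁻¹ = S.F (lin (linGens T) s) :=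
  (lf_maps S hT).2 s hs

theorem lf_fix {T : ℕ} (hT : good T = true) {s : ℕ} (hs : ev s = true) :
    lf S T * S.F s = S.F s * lf S T ↔ lin (linGens T) s = s := by
  obtain ⟨he, e⟩ := lf_conj S hT hs
  constructor
  · intro hc
    rw [hc, mul_inv_cancel_right] at e
    exact (S.F_inj hs he e).symm
  · intro hc
    rw [hc] at e
    exact mul_inv_eq_iff_eq_mul.1 e

/-- The subgroup generated by the elements of a list of tables. -/
noncomputable def tabGrp (gens : List ℕ) : Subgroup G :=
  Subgroup.closure {x | ∃ T ∈ gens, lf S T = x}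

theorem lf_mem_tabGrp {gens : List ℕ} {T : ℕ} (hT : T ∈ gens) : lf S T ∈ tabGrp S gens :=
  Subgroup.subset_closure ⟨T, hT, rfl⟩

theorem tabGrp_le_K {gens : List ℕ} (hg : ∀ T ∈ gens, Gd T) : tabGrp S gens ≤ K := by
  rw [tabGrp, closure_le]
  rintro x ⟨T, hT, rfl⟩
  exact lf_K S (hg T hT)

theorem tabGrp_fix {gens : List ℕ} (hg : ∀ T ∈ gens, good T = true) {s : ℕ} (hs : ev s = true)
    (hfix : ∀ T ∈ gens, lin (linGens T) s = s) : tabGrp S gens ≤ centralizer ({S.F s} : Set G) := by
  rw [tabGrp, closure_le]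
  rintro x ⟨T, hT, rfl⟩
  exact mem_centralizer_singleton_iff.2 ((lf_fix S (hg T hT) hs).2 (hfix T hT))

theorem mem_tabGrp {gens L : List ℕ} (hg : ∀ T ∈ gens, Gd T) (hL : ∀ T ∈ L, Gd T)
    (hcl : closedUnder L gens = true) (hr : reach L gens = true) {x : G} :
    x ∈ tabGrp S gens ↔ ∃ T ∈ L, lf S T = x := by
  simp only [closedUnder, Bool.and_eq_true, List.all_eq_true, List.contains_iff_mem] at hcl
  obtain ⟨⟨h1, -⟩, hmul⟩ := hcl
  constructor
  · intro hx
    let Q : Set G := {y | ∃ T ∈ L, lf S T = y}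
    suffices h2 : ∀ y ∈ Q, y * x ∈ Q by
      have := h2 1 ⟨_, h1, lf_one S⟩
      rwa [one_mul] at this
    induction hx using Subgroup.closure_induction with
    | mem g hg' =>
      obtain ⟨U, hU, rfl⟩ := hg'
      rintro _ ⟨T, hT, rfl⟩
      exact ⟨_, hmul T hT U hU, lf_mul S (hL T hT) (hg U hU)⟩
    | one => intro y hy; rwa [mul_one]
    | mul a b _ _ ha hb => intro y hy; rw [← mul_assoc]; exact hb _ (ha y hy)
    | inv a _ ha =>
      intro y hy
      obtain ⟨n, hn⟩ := mem_powers_iff_mem_zpowers.2 (inv_mem (mem_zpowers a) : a⁻¹ ∈ zpowers a)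
      rw [show a⁻¹ = a ^ n from hn.symm]
      clear hn
      induction n with
      | zero => rwa [pow_zero, mul_one]
      | succ k ih => rw [pow_succ, ← mul_assoc]; exact ha _ ih
  · rintro ⟨T, hT, rfl⟩
    simp only [reach, Bool.and_eq_true, List.all_eq_true, List.mem_range, Bool.or_eq_true, beq_iff_eq,
      List.any_eq_true] at hr
    obtain ⟨h0, hr⟩ := hr
    obtain ⟨i, hi, rfl⟩ := List.mem_iff_getElem.1 hT
    induction i using Nat.strong_induction_on with
    | _ i ih =>
      rw [← List.getD_eq_getElem L 0 hi]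
      rcases hr i hi with e | ⟨j, hj, g, hg', e⟩
      · rw [e, h0, lf_one]; exact one_mem _
      · rw [← e, List.getD_eq_getElem L 0 (hj.trans hi),
          lf_mul S (hL _ (List.getElem_mem _)) (hg g hg')]
        exact mul_mem (ih j hj (hj.trans hi) (List.getElem_mem _)) (lf_mem_tabGrp S hg')

theorem card_tabGrp {gens L : List ℕ} (hg : ∀ T ∈ gens, Gd T) (hL : ∀ T ∈ L, Gd T)
    (hcl : closedUnder L gens = true) (hr : reach L gens = true) (hnd : L.Nodup) :
    Nat.card (tabGrp S gens) = L.length := by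
  classical
  have hnd' : (L.map (lf S)).Nodup := hnd.map_on fun x hx y hy e => lf_inj S (hL x hx) (hL y hy) e
  have hset : (tabGrp S gens : Set G) = ((L.map (lf S)).toFinset : Set G) := by
    ext x
    rw [SetLike.mem_coe, mem_tabGrp S hg hL hcl hr, Finset.mem_coe, List.mem_toFinset, List.mem_map]
  rw [show Nat.card (tabGrp S gens) = (tabGrp S gens : Set G).ncard from Nat.card_coe_set_eq _, hset,
    Set.ncard_coe_finset, List.toFinset_card_of_nodup hnd', List.length_map]

/-- The subgroup generated by the elements of a list of syndromes. -/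
noncomputable def synGrp (bs : List ℕ) : Subgroup G :=
  Subgroup.closure {x | ∃ s ∈ bs, S.F s = x}

theorem F_mem_synGrp {bs : List ℕ} {s : ℕ} (hs : s ∈ bs) : S.F s ∈ synGrp S bs :=
  Subgroup.subset_closure ⟨s, hs, rfl⟩

theorem synGrp_le_V (bs : List ℕ) : synGrp S bs ≤ h.V := by
  rw [synGrp, closure_le]
  rintro x ⟨s, -, rfl⟩
  exact S.F_mem s

theorem mem_synGrp {bs : List ℕ} {x : G} :
    x ∈ synGrp S bs ↔ ∃ s ∈ spanOf bs, S.F s = x := by
  constructor
  · intro hx
    have hspan : ∀ (l : List ℕ) (cs : List ℕ), (∀ x ∈ l, ∀ y ∈ l, x ^^^ y ∈ l) →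
        ∀ x ∈ cs.foldl spanStep l, ∀ y ∈ cs.foldl spanStep l, x ^^^ y ∈ cs.foldl spanStep l := by
      intro l cs
      induction cs generalizing l with
      | nil => exact id
      | cons b cs ih => intro hl; exact ih _ (spanStep_closed hl)
    have hb : ∀ (l : List ℕ) (cs : List ℕ), (∀ x ∈ l, x ∈ cs.foldl spanStep l) ∧
        (0 ∈ l → ∀ b ∈ cs, b ∈ cs.foldl spanStep l) := by
      intro l cs
      induction cs generalizing l with
      | nil => exact ⟨fun x hx => hx, fun _ b hb => by simp at hb⟩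
      | cons b cs ih =>
        obtain ⟨i1, i2⟩ := ih (spanStep l b)
        have hstep : ∀ x ∈ l, x ∈ spanStep l b := fun x hx =>
          List.mem_flatMap.2 ⟨x, hx, List.mem_cons_self⟩
        refine ⟨fun x hx => i1 x (hstep x hx), fun h0 b' hb' => ?_⟩
        rcases List.mem_cons.1 hb' with rfl | hb'
        · exact i1 _ (List.mem_flatMap.2 ⟨0, h0, by simp⟩)
        · exact i2 (hstep 0 h0) b' hb'
    have h0 : 0 ∈ spanOf bs := (hb [0] bs).1 0 List.mem_cons_self
    have hcl := hspan [0] bs (fun x hx y hy => by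
      rw [List.mem_singleton.1 hx, List.mem_singleton.1 hy]; simp)
    induction hx using Subgroup.closure_induction with
    | mem g hg =>
      obtain ⟨s, hs, rfl⟩ := hg
      exact ⟨s, (hb [0] bs).2 List.mem_cons_self s hs, rfl⟩
    | one => exact ⟨0, h0, S.F_zero⟩
    | mul a b _ _ ha hb =>
      obtain ⟨s, hs, rfl⟩ := ha
      obtain ⟨r, hr, rfl⟩ := hb
      exact ⟨_, hcl s hs r hr, S.F_xor s r⟩
    | inv a _ ha =>
      obtain ⟨s, hs, rfl⟩ := ha
      exact ⟨s, hs, (inv_eq_of_mul_eq_one_right (S.F_sq s)).symm⟩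
  · rintro ⟨s, hs, rfl⟩
    exact H38.JFour.span_induction (P := fun y => S.F y ∈ synGrp S bs)
      (fun x y hx hy => by rw [S.F_xor]; exact mul_mem hx hy) bs [0] (fun b hb => F_mem_synGrp S hb)
      (fun x hx => by rw [List.mem_singleton.1 hx, S.F_zero]; exact one_mem _) s hs

theorem spanOf_ev {bs : List ℕ} (hev : ∀ b ∈ bs, ev b = true) : ∀ s ∈ spanOf bs, ev s = true :=
  H38.JFour.span_induction (fun _ _ => ev_xor) bs [0] hev
    (fun x hx => by rw [List.mem_singleton.1 hx]; exact ev_zero)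

theorem card_synGrp {bs : List ℕ} (hev : ∀ b ∈ bs, ev b = true) (hind : indep bs [0] = true) :
    Nat.card (synGrp S bs) = 2 ^ bs.length := by
  classical
  obtain ⟨hnd, hlen⟩ := span_spec bs [0] (List.nodup_singleton 0) List.mem_cons_self
    (fun x hx y hy => by rw [List.mem_singleton.1 hx, List.mem_singleton.1 hy]; simp) hind
  rw [List.length_singleton, mul_one] at hlen
  have hnd' : ((spanOf bs).map S.F).Nodup :=
    hnd.map_on fun x hx y hy e => S.F_inj (spanOf_ev hev x hx) (spanOf_ev hev y hy) e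
  have hset : (synGrp S bs : Set G) = (((spanOf bs).map S.F).toFinset : Set G) := by
    ext x
    rw [SetLike.mem_coe, mem_synGrp S, Finset.mem_coe, List.mem_toFinset, List.mem_map]
  rw [show Nat.card (synGrp S bs) = (synGrp S bs : Set G).ncard from Nat.card_coe_set_eq _, hset,
    Set.ncard_coe_finset, List.toFinset_card_of_nodup hnd', List.length_map]
  exact hlen

omit [Finite G] in
theorem conj_mem_closure {X : Set G} {g : G} {Q : Subgroup G} (hgen : ∀ x ∈ X, g * x * g⁻¹ ∈ Q)
    {x : G} (hx : x ∈ Subgroup.closure X) : g * x * g⁻¹ ∈ Q := by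
  have hle : Subgroup.closure X ≤ Q.comap (MulAut.conj g).toMonoidHom :=
    (closure_le _).2 fun y hy => hgen y hy
  exact hle hx

omit [Finite G] in
theorem comm_closure {X : Set G} {y : G} (hgen : ∀ x ∈ X, y * x = x * y) :
    Subgroup.closure X ≤ centralizer ({y} : Set G) :=
  (closure_le _).2 fun x hx => mem_centralizer_singleton_iff.2 (hgen x hx).symm

end Cfsg.Agent.H98.JFour.Pentad
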