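import Mathlib

/-!
Normalisers of subgroups of prime order through a quotient by a normal subgroup of coprime order.
-/

set_option autoImplicit false

namespace Cfsg.Agent.H98.JFour.Pentad

open Subgroup
open scoped Pointwise

variable {G : Type*} [Group G] [Finite G]

/-- An element carrying `Q` into `L Q` can be corrected by `L` to normalise `Q`. -/
theorem exists_norm_lift {L Q : Subgroup G} {p : ℕ} [Fact p.Prime] (hQ : Nat.card Q = p)
    (hL : ¬ p ∣ Nat.card L) (hn : Q ≤ normalizer (L : Set G)) {m : G}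
    (hm : ∀ q ∈ Q, m * q * m⁻¹ ∈ L ⊔ Q) : ∃ l ∈ L, l * m ∈ normalizer (Q : Set G) := by
  classical
  set H := L ⊔ Q with hH
  have hd : L ⊓ Q = ⊥ := by
    have h1 := card_dvd_of_le (inf_le_left : L ⊓ Q ≤ L)
    have h2 := hQ ▸ card_dvd_of_le (inf_le_right : L ⊓ Q ≤ Q)
    rcases (Nat.dvd_prime (Fact.out : p.Prime)).1 h2 with e | e
    · exact card_eq_one.1 e
    · exact absurd (e ▸ h1) hL
  have hcard : Nat.card H = Nat.card L * p := by
    rw [← hQ, ← Nat.card_prod]
    symm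
    refine Nat.card_eq_of_bijective
      (fun x => (⟨x.1 * x.2, mul_mem (mem_sup_left x.1.2) (mem_sup_right x.2.2)⟩ : H)) ⟨?_, ?_⟩
    · rintro ⟨x, y⟩ ⟨x', y'⟩ e
      have e' : (x : G) * y = x' * y' := congrArg Subtype.val e
      have e1 : (x' : G)⁻¹ * x = y' * (y : G)⁻¹ := by
        calc (x' : G)⁻¹ * x = (x' : G)⁻¹ * (x * y) * (y : G)⁻¹ := by group
          _ = y' * (y : G)⁻¹ := by rw [e']; group
      have hmm : (x' : G)⁻¹ * x ∈ L ⊓ Q :=
        mem_inf.2 ⟨mul_mem (inv_mem x'.2) x.2, e1 ▸ mul_mem y'.2 (inv_mem y.2)⟩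
      rw [hd, mem_bot] at hmm
      obtain rfl : x = x' := Subtype.ext (inv_mul_eq_one.1 hmm).symm
      exact Prod.ext rfl (Subtype.ext (mul_left_cancel e'))
    · intro z
      obtain ⟨x, hx, y, hy, e⟩ : ∃ x ∈ L, ∃ y ∈ Q, x * y = (z : G) := by
        have hz : (z : G) ∈ (↑(L ⊔ Q) : Set G) := z.2
        rw [coe_mul_of_right_le_normalizer_left L Q hn, Set.mem_mul] at hz
        exact hz
      exact ⟨(⟨x, hx⟩, ⟨y, hy⟩), Subtype.ext e⟩
  have hfac : (Nat.card H).factorization p = 1 := by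
    rw [hcard, Nat.factorization_mul Nat.card_pos.ne' (Fact.out : p.Prime).ne_zero, Finsupp.add_apply,
      Nat.factorization_eq_zero_of_not_dvd hL, (Fact.out : p.Prime).factorization_self]
  have key : ∀ R : Subgroup G, R ≤ H → Nat.card R = p →
      ∃ P : Sylow p H, (P : Subgroup H) = R.subgroupOf H := fun R hR hRc =>
    ⟨Sylow.ofCard (R.subgroupOf H) (by rw [Nat.card_congr (subgroupOfEquivOfLe hR).toEquiv, hRc, hfac, pow_one]),
      rfl⟩
  obtain ⟨P, hP⟩ := key Q le_sup_right hQ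
  have hR : Q.map (MulAut.conj m).toMonoidHom ≤ H := by
    rintro _ ⟨q, hq, rfl⟩; exact hm q hq
  obtain ⟨P', hP'⟩ := key _ hR
    (by rw [Subgroup.card_map_of_injective (MulAut.conj m).injective, hQ])
  obtain ⟨x, hx⟩ := MulAction.exists_smul_eq H P P'
  have hxQ : ∀ q ∈ Q, ∃ q' ∈ Q, (x : G) * q * (x : G)⁻¹ = m * q' * m⁻¹ := by
    intro q hq
    have h1 : (⟨q, (le_sup_right : Q ≤ H) hq⟩ : H) ∈ (P : Subgroup H) := by rw [hP]; exact hq
    have h2 : MulAut.conj x ⟨q, (le_sup_right : Q ≤ H) hq⟩ ∈ ((x • P : Sylow p H) : Subgroup H) := by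
      rw [Sylow.coe_subgroup_smul]
      exact Subgroup.smul_mem_pointwise_smul _ (MulAut.conj x) _ h1
    rw [hx, hP', mem_subgroupOf] at h2
    obtain ⟨q', hq', e⟩ := h2
    exact ⟨q', hq', e.symm⟩
  obtain ⟨l, hl, y, hy, e⟩ : ∃ l ∈ L, ∃ y ∈ Q, l * y = (x : G) := by
    have hz : (x : G) ∈ (↑(L ⊔ Q) : Set G) := x.2
    rw [coe_mul_of_right_le_normalizer_left L Q hn, Set.mem_mul] at hz
    exact hz
  refine ⟨l⁻¹, inv_mem hl, ?_⟩
  have key2 : m⁻¹ * l ∈ normalizer (Q : Set G) := by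
    refine mem_normalizer_fintype fun q hq => ?_
    obtain ⟨q', hq', e'⟩ := hxQ (y⁻¹ * q * y) (mul_mem (mul_mem (inv_mem hy) hq) hy)
    rw [← e] at e'
    have e2 : m⁻¹ * l * q * (m⁻¹ * l)⁻¹ = q' := by
      calc m⁻¹ * l * q * (m⁻¹ * l)⁻¹ = m⁻¹ * (l * y * (y⁻¹ * q * y) * (l * y)⁻¹) * m := by group
        _ = q' := by rw [e']; group
    exact e2 ▸ hq'
  simpa using inv_mem key2

/-- Lower bound for a normaliser through a quotient. -/
theorem card_norm_lift {P : Type*} [Group P] {M L Q : Subgroup G} {p : ℕ} [Fact p.Prime]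
    (hQ : Nat.card Q = p) (hQM : Q ≤ M) (hLM : L ≤ M) (hL : ¬ p ∣ Nat.card L)
    (hn : M ≤ normalizer (L : Set G)) (φ : M →* P) (hs : Function.Surjective φ)
    (hk : φ.ker = L.subgroupOf M) :
    Nat.card ↥(normalizer (((Q.subgroupOf M).map φ : Subgroup P) : Set P)) *
      Nat.card ↥(L ⊓ normalizer (Q : Set G)) = Nat.card ↥(M ⊓ normalizer (Q : Set G)) := by
  set N := M ⊓ normalizer (Q : Set G) with hN
  let f : N →* P := φ.comp (inclusion inf_le_left)
  have hker : f.ker = (L ⊓ normalizer (Q : Set G)).subgroupOf N := by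
    ext x
    have h1 : x ∈ f.ker ↔ (x : G) ∈ L := by
      rw [MonoidHom.mem_ker]
      show φ (inclusion inf_le_left x) = 1 ↔ _
      rw [← MonoidHom.mem_ker, hk, mem_subgroupOf]
      rfl
    rw [h1, mem_subgroupOf, mem_inf]
    exact ⟨fun hx => ⟨hx, (mem_inf.1 x.2).2⟩, fun hx => hx.1⟩
  set Q' := (Q.subgroupOf M).map φ with hQ'
  have hran : f.range = normalizer (Q' : Set P) := by
    refine le_antisymm ?_ ?_
    · rintro _ ⟨x, rfl⟩
      have key : ∀ x : N, ∀ y ∈ Q', f x * y * (f x)⁻¹ ∈ Q' := by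
        rintro x _ ⟨q, hq, rfl⟩
        refine ⟨inclusion inf_le_left x * q * (inclusion inf_le_left x)⁻¹, ?_, by
          rw [map_mul, map_mul, map_inv]; rfl⟩
        exact (mem_normalizer_iff.1 (mem_inf.1 x.2).2 _).1 hq
      refine mem_normalizer_iff.2 fun y => ⟨key x y, fun hy => ?_⟩
      have := key x⁻¹ _ hy
      rw [map_inv, inv_inv] at this
      simpa [mul_assoc] using this
    · intro y hy
      obtain ⟨m, rfl⟩ := hs y
      have hm : ∀ q ∈ Q, (m : G) * q * (m : G)⁻¹ ∈ L ⊔ Q := by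
        intro q hq
        obtain ⟨q', hq', e⟩ := (mem_normalizer_iff.1 hy (φ ⟨q, hQM hq⟩)).1 ⟨_, hq, rfl⟩
        have h1 : m * ⟨q, hQM hq⟩ * m⁻¹ * q'⁻¹ ∈ φ.ker := by
          rw [MonoidHom.mem_ker, map_mul, map_mul, map_mul, map_inv, map_inv, e, mul_inv_cancel]
        rw [hk, mem_subgroupOf] at h1
        have h2 : (m : G) * q * (m : G)⁻¹ = ((m : G) * q * (m : G)⁻¹ * (q' : G)⁻¹) * q' := by group
        rw [h2]
        exact mul_mem (mem_sup_left h1) (mem_sup_right (mem_subgroupOf.1 hq'))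
      obtain ⟨l, hl, hlm⟩ := exists_norm_lift hQ hL (hQM.trans hn) hm
      refine ⟨⟨l * m, mem_inf.2 ⟨mul_mem (hLM hl) m.2, hlm⟩⟩, ?_⟩
      have hl1 : φ ⟨l, hLM hl⟩ = 1 := by rw [← MonoidHom.mem_ker, hk, mem_subgroupOf]; exact hl
      show φ (⟨l, hLM hl⟩ * m) = φ m
      rw [map_mul, hl1, one_mul]
  have h1 := f.ker.card_mul_index
  rw [f.ker.index_eq_card, Nat.card_congr (QuotientGroup.quotientKerEquivRange f).toEquiv, hran, hker,
    Nat.card_congr (subgroupOfEquivOfLe (inf_le_inf_right _ hLM)).toEquiv] at h1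
  rw [mul_comm]
  exact h1

/-- A subgroup of prime order to the first power has normaliser of index one or more than `p`. -/
theorem card_norm_sylow {P : Type*} [Group P] [Finite P] {p b : ℕ} [Fact p.Prime] {Q : Subgroup P}
    (hQ : Nat.card Q = p) (hf : (Nat.card P).factorization p = 1)
    (hb : ∀ n, n ∣ Nat.card P / p → n % p = 1 → n ≤ b) :
    Nat.card P ≤ Nat.card ↥(normalizer (Q : Set P)) * b := by
  let S : Sylow p P := Sylow.ofCard Q (by rw [hQ, hf, pow_one])
  have h1 : Nat.card (Sylow p P) ∣ (S : Subgroup P).index := Sylow.card_dvd_index S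
  have hidx : (S : Subgroup P).index = Nat.card P / p := by
    rw [← (S : Subgroup P).card_mul_index, show Nat.card (S : Subgroup P) = p from hQ,
      Nat.mul_div_cancel_left _ (Fact.out : p.Prime).pos]
  have h2 : Nat.card (Sylow p P) % p = 1 := by
    have := card_sylow_modEq_one p P
    rw [Nat.ModEq, Nat.one_mod_eq_one.2 (Fact.out : p.Prime).ne_one] at this
    exact this
  have h3 := Sylow.card_eq_index_normalizer S
  have h4 := hb _ (hidx ▸ h1) h2
  rw [h3] at h4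
  have h5 := (normalizer ((S : Subgroup P) : Set P)).card_mul_index
  rw [← h5]
  exact Nat.mul_le_mul_left _ h4

end Cfsg.Agent.H98.JFour.Pentad
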