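import Cfsg.Agent.H98.JFour.Pentad.Special
import Cfsg.Agent.H98.JFour.Pentad.Lifting
import Cfsg.Agent.H98.JFour.Pentad.Complement
import Cfsg.Agent.H85.JFour.AutM22.Transfer

/-!
Subgroups of the pentad 2-local: the symmetric group, the Sylow normalisers, and the absence of a complement.
-/

set_option autoImplicit false
set_option linter.style.haveILetI false

namespace Cfsg.Agent.H98.JFour.Pentad

open Cfsg Cfsg.Agent.Golay Cfsg.Agent.H94.M24 Subgroup H43.JFour H38.JFour GolayTables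

universe u v

theorem trans_check : (zList.all fun z => (z == 0) || lamTab.any fun l => lin (linGens l) 29 == z) = true := by
  decide +kernel

variable {G : Type u} [Group G] [Finite G] {A : Type v} [Group A]
variable {c : Ctx G A} {M W : Subgroup A} {h : Pkg c M W} {K : Subgroup G} {t : h.V}
variable (S : Setting h K t)

theorem se_mem : lf S sT ∈ Lam S :=
  (Lam_mem S).2 ⟨sT, List.contains_iff_mem.1 word_check.2.2.2.2.2.2.1, rfl⟩

theorem se_order : orderOf (lf S sT) = 7 := by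
  haveI : Fact (Nat.Prime 7) := ⟨by norm_num⟩
  refine orderOf_eq_prime ?_ fun e => word_check.2.2.2.2.2.1 ((lf_eq_one S (gd_of_good good_s)).1 e)
  rw [← lf_pow S (gd_of_good good_s), word_check.2.2.2.2.1, lf_one]

theorem pentCore_inf_cent : pentCore S ⊓ centralizer ({lf S sT} : Set G) = ⊥ := by
  rw [eq_bot_iff]
  intro x hx
  obtain ⟨hxL, hxC⟩ := mem_inf.1 hx
  rw [pentCore_eq] at hxL
  obtain ⟨w, hw, r, hr, rfl⟩ := exists_mul_of_mem_sup (Rg_norm_W9g S) hxL
  set s := lf S sT with hs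
  have hsK : s ∈ K := lf_K S (gd_of_good good_s)
  have hsw : s * w * s⁻¹ ∈ h.V := (mem_normalizer_iff.1 (S.hK.le hsK) w).1 (synGrp_le_V S _ hw)
  have e : s * w * s⁻¹ * (s * r * s⁻¹) = w * r := by
    rw [show s * w * s⁻¹ * (s * r * s⁻¹) = s * (w * r) * s⁻¹ by group,
      ← mem_centralizer_singleton_iff.1 hxC, mul_inv_cancel_right]
  obtain ⟨e1, e2⟩ := S.hK.unique hsw (synGrp_le_V S _ hw)
    (mul_mem (mul_mem hsK (Rg_le_K S hr)) (inv_mem hsK)) (Rg_le_K S hr) e
  obtain ⟨T, hT, rfl⟩ := (Rg_mem S).1 hr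
  have h1 := List.all_eq_true.1 word_check.2.2.2.2.2.2.2.2.2.2.1 T hT
  simp only [Bool.or_eq_true, beq_iff_eq, Bool.not_eq_true', beq_eq_false_iff_ne] at h1
  have hTid : T = idTblVal := h1.resolve_right fun hne => hne
    ((lf_comm S (gd_of_good (good_rTab hT)) (gd_of_good good_s)).1 (mul_inv_eq_iff_eq_mul.1 e2).symm)
  have hT1 : lf S T = 1 := (lf_eq_one S (gd_of_good (good_rTab hT))).2 hTid
  obtain ⟨q, hq, rfl⟩ := (mem_synGrp S).1 hw
  have hqev : ev q = true := spanOf_ev (fun _ => w9Bas_ev) q hq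
  have h2 := List.all_eq_true.1 w9_check.2.2.2.2.1 q hq
  simp only [Bool.or_eq_true, beq_iff_eq, Bool.not_eq_true', beq_eq_false_iff_ne] at h2
  have hq0 : q = 0 := h2.resolve_right fun hne => hne
    ((lf_fix S good_s hqev).1 (mul_inv_eq_iff_eq_mul.1 e1))
  rw [hT1, hq0, S.F_zero, one_mul, mem_bot]

variable [IsSimpleGroup G] (hG : ¬ IsMulCommutative G)
include hG

theorem exists_symm : ∃ R : Subgroup G, R ≤ centralizer (Zg S : Set G) ∧
    Nonempty (↥R ≃* Equiv.Perm (Fin 5)) := by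
  classical
  haveI : Fact (Nat.Prime 7) := ⟨by norm_num⟩
  set N := normalizer (Zg S : Set G)
  obtain ⟨φ, hs, hk, hsnd⟩ : ∃ φ : ↥N →* Equiv.Perm (Fin 5) × Matrix.SpecialLinearGroup (Fin 3) (ZMod 2),
      Function.Surjective φ ∧ φ.ker = (pentCore S).subgroupOf N ∧
      ∀ x, (φ x).2 = 1 ↔ (x : G) ∈ centralizer (Zg S : Set G) := exists_quot S hG
  set s := lf S sT with hs'
  have hsN : s ∈ N := Lam_norm_Zg S (se_mem S)
  have hs7 : orderOf s = 7 := se_order S
  have hσ : (φ ⟨s, hsN⟩).1 = 1 := by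
    have h1 : orderOf (φ ⟨s, hsN⟩).1 ∣ 7 := by
      refine orderOf_dvd_of_pow_eq_one ?_
      rw [← Prod.pow_fst, ← map_pow, show (⟨s, hsN⟩ : N) ^ 7 = 1 from Subtype.ext (by
        show s ^ 7 = 1
        rw [← hs7, pow_orderOf_eq_one]), map_one]
      rfl
    have h2 : orderOf (φ ⟨s, hsN⟩).1 ∣ 120 := by
      have := orderOf_dvd_natCard (φ ⟨s, hsN⟩).1
      rwa [Nat.card_perm, Nat.card_fin] at this
    rcases (Nat.dvd_prime (by norm_num : Nat.Prime 7)).1 h1 with e | e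
    · exact orderOf_eq_one_iff.1 e
    · rw [e] at h2; norm_num at h2
  set R := centralizer (Zg S : Set G) ⊓ centralizer ({s} : Set G) with hR
  refine ⟨R, inf_le_left, ?_⟩
  have hRN : R ≤ N := inf_le_left.trans (centralizer_le_normalizer _)
  let f : ↥R →* Equiv.Perm (Fin 5) := (MonoidHom.fst _ _).comp (φ.comp (inclusion hRN))
  have hinj : Function.Injective f := by
    rw [← MonoidHom.ker_eq_bot_iff, eq_bot_iff]
    intro x hx
    have h1 : inclusion hRN x ∈ φ.ker := by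
      rw [MonoidHom.mem_ker]
      exact Prod.ext hx ((hsnd _).2 (mem_inf.1 x.2).1)
    rw [hk, mem_subgroupOf] at h1
    have h2 : (x : G) ∈ pentCore S ⊓ centralizer ({s} : Set G) := mem_inf.2 ⟨h1, (mem_inf.1 x.2).2⟩
    rw [pentCore_inf_cent, mem_bot] at h2
    exact Subtype.ext h2
  have hsurj : Function.Surjective f := by
    intro π
    obtain ⟨x, hx⟩ := hs (π, 1)
    have hxC : (x : G) ∈ centralizer (Zg S : Set G) := (hsnd x).1 (by rw [hx])
    have hcong : (x : G) * s * (x : G)⁻¹ * s⁻¹ ∈ pentCore S := by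
      have : x * ⟨s, hsN⟩ * x⁻¹ * ⟨s, hsN⟩⁻¹ ∈ φ.ker := by
        rw [MonoidHom.mem_ker, map_mul, map_mul, map_mul, map_inv, map_inv, hx]
        refine Prod.ext ?_ ?_
        · simp [hσ]
        · simp
      rwa [hk, mem_subgroupOf] at this
    have hcard : Nat.card (zpowers s) = 7 := by rw [Nat.card_zpowers, hs7]
    obtain ⟨l, hl, hln⟩ := exists_norm_lift (L := pentCore S) (Q := zpowers s) hcard
      (by rw [card_pentCore]; decide)
      (zpowers_le.2 (norm_le_pentCore S hsN)) (m := (x : G)) (fun q hq => by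
        have hle : zpowers s ≤ (pentCore S ⊔ zpowers s).comap (MulAut.conj (x : G)).toMonoidHom := by
          rw [zpowers_le, Subgroup.mem_comap]
          show (x : G) * s * (x : G)⁻¹ ∈ _
          rw [show (x : G) * s * (x : G)⁻¹ = (x : G) * s * (x : G)⁻¹ * s⁻¹ * s by group]
          exact mul_mem (mem_sup_left hcong) (mem_sup_right (mem_zpowers s))
        exact hle hq)
    set y := l * (x : G) with hy
    have hyC : y ∈ centralizer (Zg S : Set G) := mul_mem (pentCore_le_cent S hl) hxC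
    have h1 : y * s * y⁻¹ * s⁻¹ ∈ pentCore S := by
      rw [show y * s * y⁻¹ * s⁻¹ = l * ((x : G) * s * (x : G)⁻¹ * s⁻¹) * (s * l⁻¹ * s⁻¹) by rw [hy]; group]
      exact mul_mem (mul_mem hl hcong) ((mem_normalizer_iff.1 (norm_le_pentCore S hsN) _).1 (inv_mem hl))
    have h2 : y * s * y⁻¹ * s⁻¹ ∈ zpowers s :=
      mul_mem ((mem_normalizer_iff.1 hln s).1 (mem_zpowers s)) (inv_mem (mem_zpowers s))
    have h3 : y * s * y⁻¹ * s⁻¹ ∈ pentCore S ⊓ centralizer ({s} : Set G) := by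
      refine mem_inf.2 ⟨h1, mem_centralizer_singleton_iff.2 ?_⟩
      obtain ⟨k, hk'⟩ := mem_zpowers_iff.1 h2
      rw [← hk', ← zpow_add_one, ← zpow_one_add, add_comm]
    rw [pentCore_inf_cent, mem_bot, mul_inv_eq_one, mul_inv_eq_iff_eq_mul] at h3
    refine ⟨⟨y, mem_inf.2 ⟨hyC, mem_centralizer_singleton_iff.2 h3⟩⟩, ?_⟩
    show (φ ⟨l * (x : G), _⟩).1 = π
    have hl1 : φ ⟨l, pentCore_le_norm S hl⟩ = 1 := by
      rw [← MonoidHom.mem_ker, hk, mem_subgroupOf]; exact hl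
    rw [show (⟨l * (x : G), hRN (mem_inf.2 ⟨hyC, mem_centralizer_singleton_iff.2 h3⟩)⟩ : N) =
      ⟨l, pentCore_le_norm S hl⟩ * x from rfl, map_mul, hl1, one_mul, hx]
  exact ⟨MulEquiv.ofBijective f ⟨hinj, hsurj⟩⟩

theorem le_of_normalizer_card {Q : Subgroup G} (hle : Nat.card ↥(normalizer (Q : Set G)) ≤
    Nat.card ↥(normalizer (Zg S : Set G) ⊓ normalizer (Q : Set G))) :
    normalizer (Q : Set G) ≤ normalizer (Zg S : Set G) :=
  (Subgroup.eq_of_le_of_card_ge inf_le_right hle).ge.trans inf_le_left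

theorem normalizer_five {Q : Subgroup G} (hQ : Nat.card Q = 5) (hQC : Q ≤ centralizer (Zg S : Set G))
    (hN : Nat.card ↥(normalizer (Q : Set G)) = 2 ^ 8 * 3 * 5 * 7) :
    normalizer (Q : Set G) ≤ normalizer (Zg S : Set G) := by
  classical
  haveI : Fact (Nat.Prime 5) := ⟨by norm_num⟩
  set N := normalizer (Zg S : Set G) with hNd
  obtain ⟨φ, hs, hk, hsnd⟩ : ∃ φ : ↥N →* Equiv.Perm (Fin 5) × Matrix.SpecialLinearGroup (Fin 3) (ZMod 2),
      Function.Surjective φ ∧ φ.ker = (pentCore S).subgroupOf N ∧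
      ∀ x, (φ x).2 = 1 ↔ (x : G) ∈ centralizer (Zg S : Set G) := exists_quot S hG
  have hQN : Q ≤ N := hQC.trans (centralizer_le_normalizer _)
  have hcop : ¬ 5 ∣ Nat.card (pentCore S) := by rw [card_pentCore]; decide
  refine le_of_normalizer_card S hG ?_
  rw [← card_norm_lift hQ hQN (pentCore_le_norm S) hcop (norm_le_pentCore S) φ hs hk]
  set Q' := (Q.subgroupOf N).map φ with hQ'
  have hZN : 8 ≤ Nat.card ↥(pentCore S ⊓ normalizer (Q : Set G)) := by
    rw [← card_Zg S]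
    refine Subgroup.card_le_of_le (le_inf (Zg_le_pentCore S) fun z hz => ?_)
    refine centralizer_le_normalizer _ (mem_centralizer_iff.2 fun q hq => ?_)
    exact (mem_centralizer_iff.1 (hQC hq) z hz).symm
  have hQ'snd : ∀ y ∈ Q', y.2 = 1 := by
    rintro _ ⟨x, hx, rfl⟩
    exact (hsnd x).2 (hQC hx)
  have hQ'card : Nat.card Q' = 5 := by
    have h0 : Nat.card (Q.subgroupOf N) = 5 := by
      rw [Nat.card_congr (subgroupOfEquivOfLe hQN).toEquiv, hQ]
    have h1 := h0 ▸ Subgroup.card_map_dvd (f := φ) (H := Q.subgroupOf N)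
    rcases (Nat.dvd_prime (by norm_num : Nat.Prime 5)).1 h1 with e | e
    · exfalso
      have hbot : (Q.subgroupOf N).map φ = ⊥ := card_eq_one.1 e
      rw [Subgroup.map_eq_bot_iff, hk] at hbot
      have hle : Q ≤ pentCore S := fun q hq =>
        mem_subgroupOf.1 (hbot (show (⟨q, hQN hq⟩ : N) ∈ Q.subgroupOf N from hq))
      have h2 := card_dvd_of_le hle
      rw [hQ] at h2
      exact hcop h2
    · exact e
  set Q1 := Q'.map (MonoidHom.fst _ _) with hQ1
  have hQ1card : Nat.card Q1 = 5 := by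
    refine Eq.trans ?_ hQ'card
    refine (Nat.card_congr (Equiv.ofBijective (fun y : Q' => (⟨(y : Equiv.Perm (Fin 5) × Matrix.SpecialLinearGroup (Fin 3) (ZMod 2)).1, ⟨y, y.2, rfl⟩⟩ : ↥Q1))
      ⟨fun y y' e => Subtype.ext (Prod.ext (congrArg Subtype.val e) ((hQ'snd y y.2).trans (hQ'snd y' y'.2).symm)),
        fun ⟨p, y, hy, e⟩ => ⟨⟨y, hy⟩, Subtype.ext e⟩⟩)).symm
  have hgen := card_norm_sylow (P := Equiv.Perm (Fin 5)) (p := 5) (b := 6) hQ1card
    (by
      rw [Nat.card_perm, Nat.card_fin, show Nat.factorial 5 = 5 * 24 from rfl,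
        Nat.factorization_mul (by norm_num) (by norm_num), Finsupp.add_apply,
        Nat.Prime.factorization_self (by norm_num), Nat.factorization_eq_zero_of_not_dvd (by norm_num)])
    (by
      intro n hn hmod
      rw [Nat.card_perm, Nat.card_fin] at hn
      have hn24 : n ≤ 24 := Nat.le_of_dvd (by decide) hn
      revert hn hmod
      interval_cases n <;> decide)
  rw [Nat.card_perm, Nat.card_fin] at hgen
  have h20 : 20 ≤ Nat.card ↥(normalizer (Q1 : Set (Equiv.Perm (Fin 5)))) := by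
    simp only [Nat.factorial] at hgen
    omega
  have hprod : (normalizer (Q1 : Set (Equiv.Perm (Fin 5)))).prod ⊤ ≤ normalizer (Q' : Set (Equiv.Perm (Fin 5) × Matrix.SpecialLinearGroup (Fin 3) (ZMod 2))) := by
    rintro ⟨a, b⟩ ⟨ha, -⟩
    refine mem_normalizer_fintype fun y hy => ?_
    obtain ⟨y', hy', e⟩ := (mem_normalizer_iff.1 ha y.1).1 ⟨y, hy, rfl⟩
    have : (a, b) * y * (a, b)⁻¹ = y' := Prod.ext e.symm (by
      show b * y.2 * b⁻¹ = y'.2
      rw [hQ'snd y hy, hQ'snd y' hy', mul_one, mul_inv_cancel])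
    rwa [this]
  have h1 := Subgroup.card_le_of_le hprod
  rw [Nat.card_congr (Subgroup.prodEquiv _ _).toEquiv, Nat.card_prod] at h1
  have htop : Nat.card (⊤ : Subgroup (Matrix.SpecialLinearGroup (Fin 3) (ZMod 2))) = 168 := by
    obtain ⟨g⟩ := H54.JFour.gl_equiv_sl
    rw [Subgroup.card_top, ← Nat.card_congr g.toEquiv, H54.JFour.card_gl]
  rw [htop] at h1
  rw [hN]
  calc (2 : ℕ) ^ 8 * 3 * 5 * 7 = 20 * 168 * 8 := by norm_num
    _ ≤ _ := Nat.mul_le_mul ((Nat.mul_le_mul_right _ h20).trans h1) hZN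

theorem normalizer_seven (hN : Nat.card ↥(normalizer (zpowers (lf S sT) : Set G)) = 2 ^ 3 * 3 ^ 2 * 5 * 7) :
    normalizer (zpowers (lf S sT) : Set G) ≤ normalizer (Zg S : Set G) := by
  classical
  haveI : Fact (Nat.Prime 7) := ⟨by norm_num⟩
  set N := normalizer (Zg S : Set G) with hNd
  obtain ⟨φ, hs, hk, hsnd⟩ : ∃ φ : ↥N →* Equiv.Perm (Fin 5) × Matrix.SpecialLinearGroup (Fin 3) (ZMod 2),
      Function.Surjective φ ∧ φ.ker = (pentCore S).subgroupOf N ∧
      ∀ x, (φ x).2 = 1 ↔ (x : G) ∈ centralizer (Zg S : Set G) := exists_quot S hG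
  set Q := zpowers (lf S sT) with hQd
  have hQ : Nat.card Q = 7 := by rw [hQd, Nat.card_zpowers, se_order]
  have hQN : Q ≤ N := zpowers_le.2 (Lam_norm_Zg S (se_mem S))
  have hcop : ¬ 7 ∣ Nat.card (pentCore S) := by rw [card_pentCore]; decide
  refine le_of_normalizer_card S hG ?_
  rw [← card_norm_lift hQ hQN (pentCore_le_norm S) hcop (norm_le_pentCore S) φ hs hk]
  set Q' := (Q.subgroupOf N).map φ with hQ'
  have hQ'card : Nat.card Q' = 7 := by
    have h0 : Nat.card (Q.subgroupOf N) = 7 := by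
      rw [Nat.card_congr (subgroupOfEquivOfLe hQN).toEquiv, hQ]
    have h1 := h0 ▸ Subgroup.card_map_dvd (f := φ) (H := Q.subgroupOf N)
    rcases (Nat.dvd_prime (by norm_num : Nat.Prime 7)).1 h1 with e | e
    · exfalso
      have hbot : (Q.subgroupOf N).map φ = ⊥ := card_eq_one.1 e
      rw [Subgroup.map_eq_bot_iff, hk] at hbot
      have hle : Q ≤ pentCore S := fun q hq =>
        mem_subgroupOf.1 (hbot (show (⟨q, hQN hq⟩ : N) ∈ Q.subgroupOf N from hq))
      have h2 := card_dvd_of_le hle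
      rw [hQ] at h2
      exact hcop h2
    · exact e
  have hQ'fst : ∀ y ∈ Q', y.1 = 1 := by
    intro y hy
    have h1 : orderOf y.1 ∣ 7 := by
      refine orderOf_dvd_of_pow_eq_one ?_
      rw [← Prod.pow_fst, show y ^ 7 = 1 from by
        rw [← orderOf_dvd_iff_pow_eq_one]; exact hQ'card ▸ Subgroup.orderOf_dvd_natCard Q' hy]
      rfl
    have h2 : orderOf y.1 ∣ 120 := by
      have := orderOf_dvd_natCard y.1
      rwa [Nat.card_perm, Nat.card_fin] at this
    rcases (Nat.dvd_prime (by norm_num : Nat.Prime 7)).1 h1 with e | e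
    · exact orderOf_eq_one_iff.1 e
    · rw [e] at h2; norm_num at h2
  set Q2 := Q'.map (MonoidHom.snd _ _) with hQ2
  have hQ2card : Nat.card Q2 = 7 := by
    refine Eq.trans ?_ hQ'card
    refine (Nat.card_congr (Equiv.ofBijective (fun y : Q' => (⟨(y : Equiv.Perm (Fin 5) × Matrix.SpecialLinearGroup (Fin 3) (ZMod 2)).2, ⟨y, y.2, rfl⟩⟩ : ↥Q2))
      ⟨fun y y' e => Subtype.ext (Prod.ext ((hQ'fst y y.2).trans (hQ'fst y' y'.2).symm) (congrArg Subtype.val e)),
        fun ⟨p, y, hy, e⟩ => ⟨⟨y, hy⟩, Subtype.ext e⟩⟩)).symm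
  obtain ⟨g⟩ := H54.JFour.gl_equiv_sl
  have hP : Nat.card (Matrix.SpecialLinearGroup (Fin 3) (ZMod 2)) = 168 := by
    rw [← Nat.card_congr g.toEquiv, H54.JFour.card_gl]
  have hgen := card_norm_sylow (P := Matrix.SpecialLinearGroup (Fin 3) (ZMod 2)) (p := 7) (b := 8) hQ2card
    (by
      rw [hP, show (168 : ℕ) = 7 * 24 from rfl,
        Nat.factorization_mul (by norm_num) (by norm_num), Finsupp.add_apply,
        Nat.Prime.factorization_self (by norm_num), Nat.factorization_eq_zero_of_not_dvd (by norm_num)])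
    (by
      intro n hn hmod
      rw [hP] at hn
      have hn24 : n ≤ 24 := Nat.le_of_dvd (by decide) hn
      revert hn hmod
      interval_cases n <;> decide)
  rw [hP] at hgen
  have hprod : (⊤ : Subgroup (Equiv.Perm (Fin 5))).prod
      (normalizer (Q2 : Set (Matrix.SpecialLinearGroup (Fin 3) (ZMod 2)))) ≤ normalizer (Q' : Set (Equiv.Perm (Fin 5) × Matrix.SpecialLinearGroup (Fin 3) (ZMod 2))) := by
    rintro ⟨a, b⟩ ⟨-, hb⟩
    refine mem_normalizer_fintype fun y hy => ?_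
    obtain ⟨y', hy', e⟩ := (mem_normalizer_iff.1 hb y.2).1 ⟨y, hy, rfl⟩
    have : (a, b) * y * (a, b)⁻¹ = y' := Prod.ext (by
      show a * y.1 * a⁻¹ = y'.1
      rw [hQ'fst y hy, hQ'fst y' hy', mul_one, mul_inv_cancel]) e.symm
    rwa [this]
  have h1 := Subgroup.card_le_of_le hprod
  rw [Nat.card_congr (Subgroup.prodEquiv _ _).toEquiv, Nat.card_prod, Subgroup.card_top, Nat.card_perm,
    Nat.card_fin] at h1
  have hL1 : 1 ≤ Nat.card ↥(pentCore S ⊓ normalizer (Q : Set G)) := Nat.card_pos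
  rw [hN]
  calc (2 : ℕ) ^ 3 * 3 ^ 2 * 5 * 7 = 120 * 21 * 1 := by norm_num
    _ ≤ _ := Nat.mul_le_mul (le_trans (Nat.mul_le_mul (le_of_eq (by rfl)) (by omega)) h1) hL1

theorem Lam_transitive {x y : G} (hx : x ∈ Zg S) (hy : y ∈ Zg S) (hx1 : x ≠ 1) (hy1 : y ≠ 1) :
    ∃ b ∈ Lam S, b * x * b⁻¹ = y := by
  have key : ∀ {w : G}, w ∈ Zg S → w ≠ 1 → ∃ b ∈ Lam S, b * S.F 29 * b⁻¹ = w := by
    intro w hw hw1
    obtain ⟨s, hs, rfl⟩ := (mem_Zg S).1 hw
    have h1 := List.all_eq_true.1 trans_check s hs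
    simp only [Bool.or_eq_true, beq_iff_eq, List.any_eq_true] at h1
    obtain ⟨l, hl, e⟩ := h1.resolve_left fun e => hw1 (by rw [e, S.F_zero])
    exact ⟨lf S l, (Lam_mem S).2 ⟨l, hl, rfl⟩, by
      rw [(lf_conj S (good_lamTab hl) (zList_ev (s := 29) (by decide))).2, e]⟩
  obtain ⟨b, hb, rfl⟩ := key hx hx1
  obtain ⟨b', hb', rfl⟩ := key hy hy1
  exact ⟨b' * b⁻¹, mul_mem hb' (inv_mem hb), by group⟩

/-- The core has no complement in its normaliser. -/
theorem not_split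
    (h72 : ∀ Q : Subgroup G, Nat.card Q = 5 → Q ≤ centralizer ({c.z} : Set G) →
      ¬ (25 ∣ Nat.card G) ∧
      (∃ J : Subgroup G, Cfsg.IsInternalDirectProduct Q J (centralizer (Q : Set G)) ∧
        ∃ (E : Subgroup J) (_ : E.Normal), Cfsg.IsElementaryAbelian 2 E ∧ Nat.card E = 8 ∧
          Nonempty (J ⧸ E ≃* Matrix.SpecialLinearGroup (Fin 3) (ZMod 2)) ∧
            ∀ R : Subgroup J, ¬ E.IsComplement' R) ∧
      Nat.card ↥(normalizer (Q : Set G)) = 2 ^ 8 * 3 * 5 * 7)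
    (R : Subgroup ↥(normalizer (Zg S : Set G))) :
    ¬ ((pentCore S).subgroupOf (normalizer (Zg S : Set G))).IsComplement' R := by
  classical
  haveI : Fact (Nat.Prime 5) := ⟨by norm_num⟩
  revert R
  set N := normalizer (Zg S : Set G) with hNd
  intro R hR
  obtain ⟨φ, hs, hk, hsnd⟩ : ∃ φ : ↥N →* Equiv.Perm (Fin 5) × Matrix.SpecialLinearGroup (Fin 3) (ZMod 2),
      Function.Surjective φ ∧ φ.ker = (pentCore S).subgroupOf N ∧
      ∀ x, (φ x).2 = 1 ↔ (x : G) ∈ centralizer (Zg S : Set G) := exists_quot S hG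
  let f : ↥R →* Equiv.Perm (Fin 5) × Matrix.SpecialLinearGroup (Fin 3) (ZMod 2) := φ.comp R.subtype
  have hf : Function.Bijective f := by
    refine ⟨?_, fun y => ?_⟩
    · rw [← MonoidHom.ker_eq_bot_iff, eq_bot_iff]
      intro x hx
      have h1 : (x : N) ∈ (pentCore S).subgroupOf N ⊓ R := mem_inf.2 ⟨hk ▸ (hx : φ x = 1), x.2⟩
      rw [hR.disjoint.eq_bot, mem_bot] at h1
      exact Subtype.ext h1
    · obtain ⟨m, rfl⟩ := hs y
      obtain ⟨⟨l, r⟩, e⟩ := hR.2 m
      refine ⟨r, ?_⟩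
      have hl : φ l = 1 := by rw [← MonoidHom.mem_ker, hk]; exact l.2
      show φ r = φ m
      rw [← e, map_mul, hl, one_mul]
  set eR := MulEquiv.ofBijective f hf
  obtain ⟨σ, hσ⟩ := exists_prime_orderOf_dvd_card' (G := Equiv.Perm (Fin 5)) 5
    (by rw [Nat.card_perm, Nat.card_fin]; decide)
  let ι : ↥R →* G := N.subtype.comp R.subtype
  have hι : Function.Injective ι := N.subtype_injective.comp R.subtype_injective
  have hφ : ∀ y, φ ((eR.symm y : ↥R) : N) = y := fun y => eR.apply_symm_apply y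
  set q0 : G := ι (eR.symm (σ, 1)) with hq0
  set Q0 := zpowers q0 with hQ0
  have hord : orderOf q0 = 5 := by
    rw [hq0, orderOf_injective ι hι, MulEquiv.orderOf_eq, Prod.orderOf, hσ]
    simp
  have hQcard : Nat.card Q0 = 5 := by rw [hQ0, Nat.card_zpowers, hord]
  have hq0C : q0 ∈ centralizer (Zg S : Set G) := (hsnd _).1 (by
    show (φ ((eR.symm (σ, 1) : ↥R) : N)).2 = 1
    rw [hφ])
  let β : Matrix.SpecialLinearGroup (Fin 3) (ZMod 2) →* G :=
    ι.comp (eR.symm.toMonoidHom.comp (MonoidHom.inr _ _))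
  set B := β.range with hBd
  have hβ : Function.Injective β := hι.comp (eR.symm.injective.comp fun a b e => congrArg Prod.snd e)
  have hBcard : Nat.card B = 168 := by
    obtain ⟨g⟩ := H54.JFour.gl_equiv_sl
    rw [hBd, ← Nat.card_congr (MonoidHom.ofInjective hβ).toEquiv, ← Nat.card_congr g.toEquiv,
      H54.JFour.card_gl]
  have hBQ : B ≤ centralizer (Q0 : Set G) := by
    rintro _ ⟨y, rfl⟩
    refine mem_centralizer_iff.2 fun q hq => ?_
    have hc : Commute q0 (β y) := by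
      refine (Commute.map ?_ ι)
      refine Commute.map ?_ eR.symm.toMonoidHom
      exact Prod.ext (by simp) (by simp)
    obtain ⟨k, rfl⟩ := mem_zpowers_iff.1 hq
    exact (hc.zpow_left k).eq
  have hBZ : B ⊓ centralizer (Zg S : Set G) = ⊥ := by
    rw [eq_bot_iff]
    intro x hx
    obtain ⟨y, rfl⟩ := (mem_inf.1 hx).1
    have h1 := (hsnd ((eR.symm (1, y) : ↥R) : N)).2 (mem_inf.1 hx).2
    rw [hφ] at h1
    rw [mem_bot, show y = 1 from h1, map_one]
  have htr : ∀ x ∈ Zg S, ∀ y ∈ Zg S, x ≠ 1 → y ≠ 1 → ∃ b ∈ B, b * x * b⁻¹ = y := by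
    intro x hx y hy hx1 hy1
    obtain ⟨l, hl, rfl⟩ := Lam_transitive S hG hx hy hx1 hy1
    set w := (φ ⟨l, Lam_norm_Zg S hl⟩).2 with hw
    refine ⟨β w, ⟨w, rfl⟩, ?_⟩
    set b : N := ((eR.symm (1, w) : ↥R) : N) with hb
    have h1 : ((b⁻¹ * ⟨l, Lam_norm_Zg S hl⟩ : N) : G) ∈ centralizer (Zg S : Set G) := by
      refine (hsnd _).1 ?_
      rw [map_mul, map_inv, hb, hφ]
      simp [hw]
    have h2 := mem_centralizer_iff.1 h1 x hx
    show (b : G) * x * (b : G)⁻¹ = l * x * l⁻¹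
    rw [Subgroup.coe_mul, Subgroup.coe_inv] at h2
    calc (b : G) * x * (b : G)⁻¹ = (b : G) * (x * ((b : G)⁻¹ * l)) * l⁻¹ := by group
      _ = (b : G) * ((b : G)⁻¹ * l * x) * l⁻¹ := by rw [h2]
      _ = l * x * l⁻¹ := by group
  obtain ⟨a, ha, ha1⟩ : ∃ a ∈ Zg S, a ≠ 1 := by
    refine ⟨S.F 29, F_mem_synGrp S (by decide), fun e => ?_⟩
    have := (S.F_eq_one (zList_ev (s := 29) (by decide))).1 e
    omega
  obtain ⟨g, hg⟩ := isConj_iff.1 (Zg_conj S ha ha1).symm
  set e : G ≃* G := MulAut.conj g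
  have hQz : Q0.map e.toMonoidHom ≤ centralizer ({c.z} : Set G) := by
    rintro _ ⟨q, hq, rfl⟩
    refine mem_centralizer_singleton_iff.2 ?_
    have hqa : q * a = a * q := (mem_centralizer_iff.1 (zpowers_le.2 hq0C hq) a ha).symm
    show g * q * g⁻¹ * c.z = c.z * (g * q * g⁻¹)
    rw [← hg, show g * q * g⁻¹ * (g * a * g⁻¹) = g * (q * a) * g⁻¹ by group, hqa]; group
  obtain ⟨-, ⟨J, hJ, E, hEn, hEe, hE8, hiso, hns⟩, hNcard⟩ := h72 (Q0.map e.toMonoidHom)
    (by rw [Subgroup.card_map_of_injective e.injective, hQcard]) hQz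
  have hQN : normalizer (Q0 : Set G) ≤ N := by
    refine normalizer_five S hG hQcard (zpowers_le.2 hq0C) ?_
    rw [← hNcard, H85.AutM22.norm_map_e, Subgroup.card_map_of_injective e.injective]
  haveI := hEn
  refine no_complement (Z := (Zg S).map e.toMonoidHom) (B := B.map e.toMonoidHom)
    (by rw [Subgroup.card_map_of_injective e.injective, hQcard]) hJ hEe hE8 hiso hns ?_ ?_ ?_ ?_ ?_ ?_ ?_ ?_
  · rintro _ ⟨x, hx, rfl⟩
    rw [← map_mul, h.V_sq (Zg_le_V S hx), map_one]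
  · rw [Subgroup.card_map_of_injective e.injective, card_Zg]
  · rw [H85.AutM22.cent_map_e]
    refine map_mono fun z hz => mem_centralizer_iff.2 fun q hq => ?_
    exact (mem_centralizer_iff.1 (zpowers_le.2 hq0C hq) z hz).symm
  · rw [H85.AutM22.cent_map_e, H85.AutM22.norm_map_e]
    exact map_mono ((centralizer_le_normalizer _).trans hQN)
  · rw [H85.AutM22.cent_map_e]; exact map_mono hBQ
  · rw [Subgroup.card_map_of_injective e.injective, hBcard]
  · rw [H85.AutM22.cent_map_e, ← map_inf _ _ _ e.injective, hBZ, Subgroup.map_bot]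
  · rintro _ ⟨x, hx, rfl⟩ _ ⟨y, hy, rfl⟩ hx1 hy1
    obtain ⟨b, hb, eb⟩ := htr x hx y hy (fun e' => hx1 (by rw [e', map_one])) (fun e' => hy1 (by rw [e', map_one]))
    exact ⟨e b, ⟨b, hb, rfl⟩, by rw [← eb]; simp⟩

end Cfsg.Agent.H98.JFour.Pentad
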