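import Cfsg.Agent.H98.JFour.Pentad.Index
import Cfsg.Agent.H54.JFour.Struct

/-!
The normaliser of the group of order 8 modulo the core: the symmetric group of degree 5 times the linear group.
-/

set_option autoImplicit false
set_option linter.style.haveILetI false

namespace Cfsg.Agent.H98.JFour.Pentad

open Cfsg Cfsg.Agent.Golay Cfsg.Agent.H94.M24 Subgroup H43.JFour H38.JFour GolayTables

universe u v

theorem coset_check :
    ((graphL (linGens dT)).all fun q => w9List.contains q.1 || !w9List.contains (q.1 ^^^ q.2)) = true := by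
  decide +kernel

variable {G : Type u} [Group G] [Finite G] {A : Type v} [Group A]
variable {c : Ctx G A} {M W : Subgroup A} {h : Pkg c M W} {K : Subgroup G} {t : h.V}
variable (S : Setting h K t)

theorem Zg_comm : ∀ x y : Zg S, x * y = y * x := fun x y =>
  Subtype.ext (h.V_comm (Zg_le_V S x.2) (Zg_le_V S y.2))

theorem exists_theta : ∃ θ : ↥(normalizer (Zg S : Set G)) →* GL (Fin 3) (ZMod 2),
    θ.ker = (centralizer (Zg S : Set G)).subgroupOf _ := by
  obtain ⟨e⟩ := H54.JFour.exists_coords (Zg_comm S)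
    (fun x => Subtype.ext (h.elem_V.2 _ (Zg_le_V S x.2))) (card_Zg S)
  refine ⟨((H54.JFour.toMat e).comp (Zg S).normalizerMonoidHom).toHomUnits, ?_⟩
  rw [← normalizerMonoidHom_ker]
  ext n
  rw [MonoidHom.mem_ker, MonoidHom.mem_ker, Units.ext_iff, MonoidHom.coe_toHomUnits, Units.val_one,
    MonoidHom.comp_apply, ← map_one (H54.JFour.toMat e), (H54.JFour.toMat_injective e).eq_iff]

theorem Lam_iso : Nonempty (↥(Lam S) ≃* Matrix.SpecialLinearGroup (Fin 3) (ZMod 2)) := by
  obtain ⟨θ, hθ⟩ := exists_theta S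
  obtain ⟨g⟩ := H54.JFour.gl_equiv_sl
  let f : ↥(Lam S) →* GL (Fin 3) (ZMod 2) := θ.comp (inclusion (Lam_norm_Zg S))
  have hf : Function.Injective f := by
    rw [← MonoidHom.ker_eq_bot_iff, eq_bot_iff]
    intro x hx
    have h1 : inclusion (Lam_norm_Zg S) x ∈ θ.ker := hx
    rw [hθ, mem_subgroupOf] at h1
    have h2 : (x : G) ∈ Lam S ⊓ centralizer (Zg S : Set G) := mem_inf.2 ⟨x.2, h1⟩
    rw [Lam_inf_cent S, mem_bot] at h2
    exact Subtype.ext h2
  have hbij : Function.Bijective f := by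
    rw [Nat.bijective_iff_injective_and_card]
    exact ⟨hf, by rw [card_Lam, H54.JFour.card_gl]⟩
  exact ⟨(MulEquiv.ofBijective f hbij).trans g⟩

theorem Lam_cent_norm : Lam S ≤ normalizer (centralizer (Zg S : Set G) : Set G) :=
  fun _ hx => cent_normal (Lam_norm_Zg S hx)

theorem card_norm [IsSimpleGroup G] (hG : ¬ IsMulCommutative G) :
    Nat.card ↥(normalizer (Zg S : Set G)) = 2 ^ 18 * 15 * 168 ∧
    centralizer (Zg S : Set G) ⊔ Lam S = normalizer (Zg S : Set G) := by
  obtain ⟨θ, hθ⟩ := exists_theta S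
  have hc := (card_cent S hG).1
  have hCN : centralizer (Zg S : Set G) ≤ normalizer (Zg S : Set G) := centralizer_le_normalizer _
  have hle : centralizer (Zg S : Set G) ⊔ Lam S ≤ normalizer (Zg S : Set G) := sup_le hCN (Lam_norm_Zg S)
  have hlow : Nat.card ↥(centralizer (Zg S : Set G) ⊔ Lam S) = 2 ^ 18 * 15 * 168 := by
    rw [card_sup_disjoint (Lam_cent_norm S) (inf_comm (Lam S) _ ▸ Lam_inf_cent S), hc, card_Lam]
  have h1 := θ.ker.card_mul_index
  rw [θ.ker.index_eq_card, Nat.card_congr (QuotientGroup.quotientKerEquivRange θ).toEquiv, hθ,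
    Nat.card_congr (subgroupOfEquivOfLe hCN).toEquiv, hc] at h1
  have h2 : Nat.card θ.range ≤ 168 := H54.JFour.card_gl ▸ Subgroup.card_le_card_group _
  have h3 := Subgroup.card_le_of_le hle
  rw [hlow] at h3
  have hcard : Nat.card ↥(normalizer (Zg S : Set G)) = 2 ^ 18 * 15 * 168 := by
    have : Nat.card ↥(normalizer (Zg S : Set G)) ≤ 2 ^ 18 * 15 * 168 := by
      rw [← h1]; exact Nat.mul_le_mul_left _ h2
    omega
  exact ⟨hcard, Subgroup.eq_of_le_of_card_ge hle (by rw [hcard, hlow])⟩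

theorem pentCore_le_cent : pentCore S ≤ centralizer (Zg S : Set G) := iSup₂_le fun _ _ => inf_le_right

theorem pentCore_le_VK : pentCore S ≤ h.V ⊔ Ksub S := by
  rw [pentCore_eq]
  exact sup_le_sup (synGrp_le_V S _) le_sup_left

theorem norm_le_pentCore : normalizer (Zg S : Set G) ≤ normalizer (pentCore S : Set G) := by
  intro g hg
  refine mem_normalizer_fintype fun y hy => ?_
  have hle : pentCore S ≤ (pentCore S).comap (MulAut.conj g).toMonoidHom := by
    refine iSup₂_le fun a ha x hx => ?_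
    refine part_le_core S ((mem_normalizer_iff.1 hg a).1 ha.1) (fun e => ha.2 (conj_eq_one_iff.1 e)) ?_
    obtain ⟨hx1, hx2⟩ := mem_inf.1 hx
    refine mem_inf.2 ⟨?_, (mem_normalizer_iff.1 (cent_normal hg) x).1 hx2⟩
    rw [H98.JFour.twoCore_conj]
    exact ⟨x, hx1, rfl⟩
  exact hle hy

theorem pentCore_le_norm : pentCore S ≤ normalizer (Zg S : Set G) :=
  (pentCore_le_cent S).trans (centralizer_le_normalizer _)

/-- A normal subgroup of the normaliser inside `V K` lies in the core. -/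
theorem small_normal [IsSimpleGroup G] (hG : ¬ IsMulCommutative G) {D : Subgroup G}
    (hD : D ≤ h.V ⊔ Ksub S) (hLD : pentCore S ≤ D)
    (hnorm : ∀ g ∈ normalizer (Zg S : Set G), ∀ x ∈ D, g * x * g⁻¹ ∈ D) : D ≤ pentCore S := by
  by_contra hne
  obtain ⟨x, hx, hxL⟩ := SetLike.not_le_iff_exists.1 hne
  have hLev : ∀ {s : ℕ}, ev s = true → S.F s ∈ pentCore S → s ∈ w9List := by
    intro s hs hm
    rw [pentCore_eq] at hm
    obtain ⟨w, hw, r, hr, e⟩ := exists_mul_of_mem_sup (Rg_norm_W9g S) hm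
    obtain ⟨e1, -⟩ := S.hK.unique (S.F_mem s) (synGrp_le_V S _ hw) (one_mem K) (Rg_le_K S hr)
      (by rw [mul_one]; exact e)
    obtain ⟨q, hq, e2⟩ := (mem_synGrp S).1 hw
    rwa [← S.F_inj (spanOf_ev (fun _ => w9Bas_ev) q hq) hs (e2.trans e1.symm)]
  have hW9 : W9g S ≤ pentCore S := pentCore_eq S ▸ le_sup_left
  have hZN : h.V ≤ normalizer (Zg S : Set G) := (V_cent_Zg S).trans (centralizer_le_normalizer _)
  -- an element of `V` in `D` outside the core
  obtain ⟨s, hs, hsD, hsW⟩ : ∃ s, ev s = true ∧ S.F s ∈ D ∧ s ∉ w9List := by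
    obtain ⟨v, hv, k, hk, rfl⟩ :=
      exists_mul_of_mem_sup ((Ksub_le_K S).trans S.hK.le) (hD hx)
    obtain ⟨r, hr, σ, hσ, rfl⟩ := exists_mul_of_mem_sup (S3g_norm_Rg S) hk
    have hrL : r ∈ pentCore S := pentCore_eq S ▸ mem_sup_right hr
    have hvN := hZN hv
    have hrL' : v * r * v⁻¹ ∈ pentCore S :=
      (mem_normalizer_iff.1 (norm_le_pentCore S hvN) r).1 hrL
    have hvσ : v * σ ∈ D := by
      rw [show v * σ = (v * r * v⁻¹)⁻¹ * (v * (r * σ)) by group]
      exact mul_mem (inv_mem (hLD hrL')) hx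
    have hvσL : v * σ ∉ pentCore S := fun e => hxL (by
      rw [show v * (r * σ) = v * r * v⁻¹ * (v * σ) by group]; exact mul_mem hrL' e)
    obtain ⟨T, hT, rfl⟩ := (S3g_mem S).1 hσ
    by_cases h1 : T = idTblVal
    · rw [h1, lf_one, mul_one] at hvσ hvσL
      obtain ⟨s, hs, rfl⟩ := S.exists_F hv
      exact ⟨s, hs, hvσ, fun e => hvσL (hW9 ((mem_synGrp S).2 ⟨s, e, rfl⟩))⟩
    · have h2 := List.all_eq_true.1 w9_check.2.1 T hT
      simp only [Bool.or_eq_true, beq_iff_eq, List.any_eq_true, Bool.not_eq_true', List.contains_eq_mem,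
        decide_eq_false_iff_not] at h2
      obtain ⟨b, hb, hbW⟩ := h2.resolve_left h1
      have hbev : ev b = true := List.all_eq_true.1 basis_check.2 b hb
      obtain ⟨hev, hc⟩ := lf_conj S (good_sThree hT) hbev
      refine ⟨_, ev_xor hev hbev, ?_, hbW⟩
      have hin := hnorm _ (hZN (S.F_mem b)) _ hvσ
      have hcomm : v * lf S T * (S.F b * (v * lf S T)⁻¹ * (S.F b)⁻¹) ∈ D := by
        refine mul_mem hvσ ?_
        have := inv_mem hin
        rwa [show (S.F b * (v * lf S T) * (S.F b)⁻¹)⁻¹ = S.F b * (v * lf S T)⁻¹ * (S.F b)⁻¹ by group]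
          at this
      rwa [show v * lf S T * (S.F b * (v * lf S T)⁻¹ * (S.F b)⁻¹) =
          (v * (lf S T * S.F b * (lf S T)⁻¹) * v⁻¹) * (S.F b)⁻¹ by group, hc,
        h.V_comm hv (S.F_mem _), mul_inv_cancel_right,
        inv_eq_of_mul_eq_one_right (S.F_sq b), ← S.F_xor] at hcomm
  -- so all of `V`
  have hVD : h.V ≤ D := by
    set U := h.V ⊓ D with hU
    have hWU : W9g S ≤ U := le_inf (synGrp_le_V S _) (hW9.trans hLD)
    have hdN : lf S dT ∈ normalizer (Zg S : Set G) :=
      centralizer_le_normalizer _ (S3g_cent S (lf_mem_tabGrp S (by simp)))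
    obtain ⟨hlev, hlc⟩ := lf_conj S good_d hs
    have h3 : lin (linGens dT) s ∉ w9List ∧ s ^^^ lin (linGens dT) s ∉ w9List := by
      have hm := List.all_eq_true.1 coset_check _
        (lin_mem_graph (gs := linGens dT) (by simp [linGens, basisE]) hs)
      simp only [Bool.or_eq_true, List.contains_eq_mem, decide_eq_true_eq, Bool.not_eq_true',
        decide_eq_false_iff_not] at hm
      refine ⟨fun e => hsW ?_, hm.resolve_left hsW⟩
      have hmemW : S.F (lin (linGens dT) s) ∈ W9g S := (mem_synGrp S).2 ⟨_, e, rfl⟩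
      have hnW : lf S dT ∈ normalizer (W9g S : Set G) :=
        W9g_norm S (mem_sup_left (mem_sup_right (lf_mem_tabGrp S (by simp))))
      rw [← hlc, ← mem_normalizer_iff.1 hnW] at hmemW
      obtain ⟨q, hq, e'⟩ := (mem_synGrp S).1 hmemW
      rwa [← S.F_inj (spanOf_ev (fun _ => w9Bas_ev) q hq) hs e']
    have hsU : S.F s ∈ U := mem_inf.2 ⟨S.F_mem s, hsD⟩
    have hdU : S.F (lin (linGens dT) s) ∈ U := mem_inf.2 ⟨S.F_mem _, hlc ▸ hnorm _ hdN _ hsD⟩
    have hnot : ∀ {q : ℕ}, ev q = true → q ∉ w9List → S.F q ∉ W9g S := by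
      intro q hq hn hm
      obtain ⟨p, hp, e⟩ := (mem_synGrp S).1 hm
      rw [S.F_inj (spanOf_ev (fun _ => w9Bas_ev) p hp) hq e] at hp
      exact hn hp
    let f : W9g S × Fin 3 → U := fun p =>
      ⟨(p.1 : G) * ![1, S.F s, S.F (lin (linGens dT) s)] p.2, mul_mem (hWU p.1.2) (by
        rcases p with ⟨w, i⟩
        fin_cases i
        exacts [one_mem _, hsU, hdU])⟩
    have hf : Function.Injective f := by
      rintro ⟨w, i⟩ ⟨w', j⟩ e
      have e' : (w : G) * ![1, S.F s, S.F (lin (linGens dT) s)] i =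
          w' * ![1, S.F s, S.F (lin (linGens dT) s)] j := congrArg Subtype.val e
      have hm : ![1, S.F s, S.F (lin (linGens dT) s)] i *
          (![1, S.F s, S.F (lin (linGens dT) s)] j)⁻¹ ∈ W9g S := by
        have := mul_mem (inv_mem w.2) w'.2
        rwa [show (w : G)⁻¹ * w' = ![1, S.F s, S.F (lin (linGens dT) s)] i *
          (![1, S.F s, S.F (lin (linGens dT) s)] j)⁻¹ by
            calc (w : G)⁻¹ * w' = (w : G)⁻¹ * (w' * ![1, S.F s, S.F (lin (linGens dT) s)] j) *
                  (![1, S.F s, S.F (lin (linGens dT) s)] j)⁻¹ := by group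
              _ = _ := by rw [← e']; group] at this
      have hi : i = j := by
        by_contra hij
        have n1 := hnot hs hsW
        have n2 := hnot hlev h3.1
        have n3 := hnot (ev_xor hs hlev) h3.2
        rw [S.F_xor] at n3
        have n3' : S.F (lin (linGens dT) s) * S.F s ∉ W9g S := by
          rwa [h.V_comm (S.F_mem _) (S.F_mem _)]
        revert hm
        fin_cases i <;> fin_cases j <;>
          simp_all [inv_eq_of_mul_eq_one_right (S.F_sq _)]
      subst hi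
      exact Prod.ext (Subtype.ext (mul_right_cancel e')) rfl
    have h1 := Nat.card_le_card_of_injective f hf
    rw [Nat.card_prod, card_synGrp S (fun _ => w9Bas_ev) w_check.2.2.2.1, w_check.2.2.2.2,
      Nat.card_fin] at h1
    have h2 : Nat.card U ∣ 2 ^ 11 := h.card_V ▸ card_dvd_of_le inf_le_left
    obtain ⟨k, hk, e⟩ := (Nat.dvd_prime_pow Nat.prime_two).1 h2
    have hk11 : k = 11 := by
      rw [e] at h1
      by_contra hk'
      have := Nat.pow_le_pow_right (show 0 < 2 by norm_num) (show k ≤ 10 by omega)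
      omega
    have : U = h.V := Subgroup.eq_of_le_of_card_ge inf_le_left (by rw [h.card_V, e, hk11])
    exact this ▸ inf_le_right
  obtain ⟨y, hy, hyN⟩ := exists_outside S hG
  refine hyN (h.weak_closed fun v hv => ?_)
  have := hnorm y (centralizer_le_normalizer _ hy) v (hVD hv)
  exact (mem_inf.1 (VK_le S (hD this))).2

/-- The map onto the product, with the core as kernel. -/
theorem exists_quot [IsSimpleGroup G] (hG : ¬ IsMulCommutative G) :
    ∃ φ : ↥(normalizer (Zg S : Set G)) →* Equiv.Perm (Fin 5) × Matrix.SpecialLinearGroup (Fin 3) (ZMod 2),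
      Function.Surjective φ ∧ φ.ker = (pentCore S).subgroupOf _ ∧
      ∀ x, (φ x).2 = 1 ↔ (x : G) ∈ centralizer (Zg S : Set G) := by
  classical
  set N := normalizer (Zg S : Set G) with hN
  obtain ⟨θ, hθ⟩ := exists_theta S
  obtain ⟨g⟩ := H54.JFour.gl_equiv_sl
  obtain ⟨hNc, hsupN⟩ := card_norm S hG
  obtain ⟨hCc, hCN⟩ := card_cent S hG
  set B := N ⊓ normalizer (h.V : Set G) with hB
  have hVKN : h.V ⊔ Ksub S ≤ N := ((VK_le S).trans inf_le_left).trans (centralizer_le_normalizer _)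
  have hBsup : B = (h.V ⊔ Ksub S) ⊔ Lam S := by
    refine le_antisymm ?_ (sup_le (le_inf hVKN ((VK_le S).trans inf_le_right))
      (le_inf (Lam_norm_Zg S) ((Lam_le_K S).trans S.hK.le)))
    intro x hx
    obtain ⟨hxN, hxV⟩ := mem_inf.1 hx
    rw [hN, ← hsupN] at hxN
    obtain ⟨a, ha, l, hl, rfl⟩ := exists_mul_of_mem_sup (Lam_cent_norm S) hxN
    have haV : a ∈ normalizer (h.V : Set G) := by
      have := mul_mem hxV (inv_mem (S.hK.le (Lam_le_K S hl)))
      rwa [mul_inv_cancel_right] at this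
    exact mul_mem (mem_sup_left (hCN ▸ mem_inf.2 ⟨ha, haV⟩)) (mem_sup_right hl)
  have hBcard : Nat.card B = 2 ^ 18 * 3 * 168 := by
    rw [hBsup, card_sup_disjoint ?_ ?_, card_VK, card_Lam]
    · intro l hl
      refine mem_normalizer_fintype fun y hy => ?_
      have h1 : l * y * l⁻¹ ∈ centralizer (Zg S : Set G) ⊓ normalizer (h.V : Set G) :=
        mem_inf.2 ⟨(mem_normalizer_iff.1 (Lam_cent_norm S hl) y).1 (mem_inf.1 (VK_le S hy)).1,
          mul_mem (mul_mem (S.hK.le (Lam_le_K S hl)) (mem_inf.1 (VK_le S hy)).2)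
            (inv_mem (S.hK.le (Lam_le_K S hl)))⟩
      exact hCN ▸ h1
    · refine le_bot_iff.1 ((inf_le_inf_right _ ((VK_le S).trans inf_le_left)).trans ?_)
      rw [inf_comm]; exact (Lam_inf_cent S).le
  set B' := B.subgroupOf N with hB'
  have hidx : B'.index = 5 := by
    have := B'.card_mul_index
    rw [hB', Nat.card_congr (subgroupOfEquivOfLe (show B ≤ N from inf_le_left)).toEquiv, hBcard, hN, hNc] at this
    rw [hB', hN]
    norm_num at this ⊢
    omega
  have e5 : Nat.card (↥N ⧸ B') = 5 := by rw [← Subgroup.index_eq_card]; exact hidx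
  let σ : ↥N →* Equiv.Perm (Fin 5) :=
    ((Finite.equivFinOfCardEq e5).permCongrHom : _ ≃* _).toMonoidHom.comp
      (MulAction.toPermHom ↥N (↥N ⧸ B'))
  have hσ : σ.ker = B'.normalCore := by
    rw [Subgroup.normalCore_eq_ker]
    ext x
    simp [σ, MonoidHom.mem_ker]
  let φ : ↥N →* Equiv.Perm (Fin 5) × Matrix.SpecialLinearGroup (Fin 3) (ZMod 2) :=
    σ.prod (g.toMonoidHom.comp θ)
  have hsnd : ∀ x, (φ x).2 = 1 ↔ (x : G) ∈ centralizer (Zg S : Set G) := fun x => by
    show g (θ x) = 1 ↔ _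
    rw [MulEquiv.map_eq_one_iff, ← MonoidHom.mem_ker, hθ, mem_subgroupOf]
  have hker : φ.ker = (pentCore S).subgroupOf N := by
    haveI : ((pentCore S).subgroupOf N).Normal := ⟨fun x hx m => by
      rw [mem_subgroupOf] at hx ⊢
      exact (mem_normalizer_iff.1 (norm_le_pentCore S m.2) _).1 hx⟩
    refine le_antisymm ?_ ?_
    · intro x hx
      rw [MonoidHom.mem_ker] at hx
      have hx1 : x ∈ B'.normalCore := hσ ▸ (congrArg Prod.fst hx : σ x = 1)
      have hx2 := (hsnd x).1 (congrArg Prod.snd hx)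
      rw [mem_subgroupOf]
      set D : Subgroup G := B'.normalCore.map N.subtype ⊓ centralizer (Zg S : Set G) with hD
      refine small_normal S hG (D := D) ?_ ?_ ?_ (mem_inf.2 ⟨⟨x, hx1, rfl⟩, hx2⟩)
      · rintro _ ⟨⟨y, hy, rfl⟩, hy2⟩
        exact hCN ▸ mem_inf.2 ⟨hy2, (mem_inf.1 (B'.normalCore_le hy : (y : G) ∈ B)).2⟩
      · intro y hy
        refine mem_inf.2 ⟨⟨⟨y, pentCore_le_norm S hy⟩, ?_, rfl⟩, pentCore_le_cent S hy⟩
        exact (Subgroup.normal_le_normalCore (N := (pentCore S).subgroupOf N)).2 (fun z hz =>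
          (hBsup.symm ▸ mem_sup_left (pentCore_le_VK S hz) : (z : G) ∈ B)) hy
      · rintro m hm _ ⟨⟨y, hy, rfl⟩, hy2⟩
        exact mem_inf.2 ⟨⟨_, B'.normalCore_normal.conj_mem y hy ⟨m, hm⟩, rfl⟩,
          (mem_normalizer_iff.1 (cent_normal hm) _).1 hy2⟩
    · intro x hx
      rw [MonoidHom.mem_ker]
      refine Prod.ext ?_ ((hsnd x).2 (pentCore_le_cent S hx))
      show σ x = 1
      rw [← MonoidHom.mem_ker, hσ]
      exact (Subgroup.normal_le_normalCore (N := (pentCore S).subgroupOf N)).2 (fun z hz =>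
        (hBsup.symm ▸ mem_sup_left (pentCore_le_VK S hz) : (z : G) ∈ B)) hx
  refine ⟨φ, ?_, hker, hsnd⟩
  rw [← MonoidHom.range_eq_top]
  refine eq_top_of_card_eq _ ?_
  have h1 := φ.ker.card_mul_index
  rw [φ.ker.index_eq_card, Nat.card_congr (QuotientGroup.quotientKerEquivRange φ).toEquiv, hker,
    Nat.card_congr (subgroupOfEquivOfLe (pentCore_le_norm S)).toEquiv, card_pentCore, hNc] at h1
  rw [Nat.card_prod, Nat.card_perm, Nat.card_fin, ← Nat.card_congr g.toEquiv, H54.JFour.card_gl]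
  simp only [Nat.factorial]
  omega

end Cfsg.Agent.H98.JFour.Pentad
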