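import Cfsg.Agent.H98.JFour.Pentad.Quot
import Cfsg.Agent.PGroups.Basic
import Cfsg.Prelude.Def_Transfer

/-!
The core is special with centre the group of order 8.
-/

set_option autoImplicit false
set_option linter.style.haveILetI false

namespace Cfsg.Agent.H98.JFour.Pentad

open Cfsg Cfsg.Agent.Golay Cfsg.Agent.H94.M24 Subgroup H43.JFour H38.JFour GolayTables
open scoped commutatorElement

universe u v

/-- Commutators and squares in a group generated modulo a central subgroup by commuting involutions. -/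
theorem comm_sq_of_gens {G : Type*} [Group G] {Z : Subgroup G} {X : Set G}
    (hcen : ∀ z ∈ Z, ∀ x ∈ Subgroup.closure X, x * z = z * x)
    (hcomm : ∀ x ∈ X, ∀ y ∈ X, x * y * x⁻¹ * y⁻¹ ∈ Z) (hsq : ∀ x ∈ X, x * x ∈ Z) :
    (∀ a ∈ Subgroup.closure X, ∀ b ∈ Subgroup.closure X, a * b * a⁻¹ * b⁻¹ ∈ Z) ∧
      ∀ a ∈ Subgroup.closure X, a * a ∈ Z := by
  have hc : ∀ z ∈ Z, ∀ x ∈ Subgroup.closure X, x * z * x⁻¹ = z := fun z hz x hx => by
    rw [hcen z hz x hx, mul_inv_cancel_right]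
  have hone : ∀ x ∈ X, ∀ b ∈ Subgroup.closure X, x * b * x⁻¹ * b⁻¹ ∈ Z := by
    intro x hx b hb
    induction hb using Subgroup.closure_induction with
    | mem y hy => exact hcomm x hx y hy
    | one => simp
    | mul p q hp _ h1 h2 =>
      rw [show x * (p * q) * x⁻¹ * (p * q)⁻¹ = (x * p * x⁻¹ * p⁻¹) * (p * (x * q * x⁻¹ * q⁻¹) * p⁻¹) by group,
        hc _ h2 p hp]
      exact mul_mem h1 h2
    | inv p hp h1 =>
      rw [show x * p⁻¹ * x⁻¹ * p⁻¹⁻¹ = p⁻¹ * (x * p * x⁻¹ * p⁻¹)⁻¹ * p⁻¹⁻¹ by group,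
        hc _ (inv_mem h1) _ (inv_mem hp)]
      exact inv_mem h1
  have hall : ∀ a ∈ Subgroup.closure X, ∀ b ∈ Subgroup.closure X, a * b * a⁻¹ * b⁻¹ ∈ Z := by
    intro a ha
    induction ha using Subgroup.closure_induction with
    | mem x hx => exact hone x hx
    | one => intro b _; simp
    | mul p q hp _ h1 h2 =>
      intro b hb
      rw [show p * q * b * (p * q)⁻¹ * b⁻¹ = (p * (q * b * q⁻¹ * b⁻¹) * p⁻¹) * (p * b * p⁻¹ * b⁻¹) by group,
        hc _ (h2 b hb) p hp]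
      exact mul_mem (h2 b hb) (h1 b hb)
    | inv p hp h1 =>
      intro b hb
      rw [show p⁻¹ * b * p⁻¹⁻¹ * b⁻¹ = p⁻¹ * (p * b * p⁻¹ * b⁻¹)⁻¹ * p⁻¹⁻¹ by group,
        hc _ (inv_mem (h1 b hb)) _ (inv_mem hp)]
      exact inv_mem (h1 b hb)
  refine ⟨hall, fun a ha => ?_⟩
  induction ha using Subgroup.closure_induction with
  | mem x hx => exact hsq x hx
  | one => simp
  | mul p q hp hq h1 h2 =>
    rw [show p * q * (p * q) = (p * p) * (p⁻¹ * q * p⁻¹⁻¹ * q⁻¹) * (q * q) by group]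
    exact mul_mem (mul_mem h1 (hall _ (inv_mem hp) _ hq)) h2
  | inv p hp h1 =>
    rw [← mul_inv_rev]
    exact inv_mem h1

variable {G : Type u} [Group G] [Finite G] {A : Type v} [Group A]
variable {c : Ctx G A} {M W : Subgroup A} {h : Pkg c M W} {K : Subgroup G} {t : h.V}
variable (S : Setting h K t)

/-- The generators of the core. -/
def coreGens : Set G := {x | ∃ b ∈ w9Bas, S.F b = x} ∪ {x | ∃ T ∈ rGens, lf S T = x}

theorem closure_coreGens : Subgroup.closure (coreGens S) = pentCore S := by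
  rw [pentCore_eq, coreGens, Subgroup.closure_union]
  rfl

theorem Zg_le_pentCore : Zg S ≤ pentCore S := by
  intro x hx
  obtain ⟨a, ha, ha1⟩ : ∃ a ∈ Zg S, a ≠ 1 := by
    refine ⟨S.F 29, F_mem_synGrp S (by decide), fun e => ?_⟩
    have := (S.F_eq_one (zList_ev (s := 29) (by decide))).1 e
    omega
  exact part_le_core S ha ha1
    (mem_inf.2 ⟨Zg_le_core S ha ha1 hx, mem_centralizer_iff.2 fun y hy => h.V_comm (Zg_le_V S hy) (Zg_le_V S hx)⟩)

theorem comm_sq : (∀ a ∈ pentCore S, ∀ b ∈ pentCore S, a * b * a⁻¹ * b⁻¹ ∈ Zg S) ∧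
    ∀ a ∈ pentCore S, a * a ∈ Zg S := by
  rw [← closure_coreGens]
  refine comm_sq_of_gens ?_ ?_ ?_
  · intro z hz x hx
    rw [closure_coreGens] at hx
    exact (mem_centralizer_iff.1 (pentCore_le_cent S hx) z hz).symm
  · have hwr : ∀ b ∈ w9Bas, ∀ T ∈ rGens, lf S T * S.F b * (lf S T)⁻¹ * (S.F b)⁻¹ ∈ Zg S := by
      intro b hb T hT
      obtain ⟨hev, hc⟩ := lf_conj S (good_rGens hT) (w9Bas_ev hb)
      rw [hc, inv_eq_of_mul_eq_one_right (S.F_sq b), ← S.F_xor]
      exact (mem_Zg S).2 ⟨_, List.contains_iff_mem.1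
        (List.all_eq_true.1 (List.all_eq_true.1 w9_check.2.2.2.2.2.1 T hT) b hb), rfl⟩
    rintro x (⟨b, hb, rfl⟩ | ⟨T, hT, rfl⟩) y (⟨b', hb', rfl⟩ | ⟨T', hT', rfl⟩)
    · rw [h.V_comm (S.F_mem b) (S.F_mem b'), mul_inv_cancel_right, mul_inv_cancel]
      exact one_mem _
    · rw [show S.F b * lf S T' * (S.F b)⁻¹ * (lf S T')⁻¹ =
        (lf S T' * S.F b * (lf S T')⁻¹ * (S.F b)⁻¹)⁻¹ by group]
      exact inv_mem (hwr b hb T' hT')
    · exact hwr b' hb' T hT
    · have h1 := List.all_eq_true.1 (List.all_eq_true.1 word_check.2.2.2.2.2.2.2.2.1 T hT) T' hT'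
      rw [(lf_comm S (gd_of_good (good_rGens hT)) (gd_of_good (good_rGens hT'))).2 (beq_iff_eq.1 h1),
        mul_inv_cancel_right, mul_inv_cancel]
      exact one_mem _
  · rintro x (⟨b, hb, rfl⟩ | ⟨T, hT, rfl⟩)
    · rw [S.F_sq]; exact one_mem _
    · have h1 := beq_iff_eq.1 (List.all_eq_true.1 word_check.2.2.2.2.2.2.2.2.2.1 T hT)
      rw [← lf_mul S (gd_of_good (good_rGens hT)) (gd_of_good (good_rGens hT)), h1, lf_one]
      exact one_mem _

theorem center_pentCore : center ↥(pentCore S) = (Zg S).subgroupOf (pentCore S) := by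
  ext ⟨x, hx⟩
  rw [mem_center_iff, mem_subgroupOf]
  constructor
  · intro hcen
    have hc : ∀ y ∈ pentCore S, y * x = x * y := fun y hy => congrArg Subtype.val (hcen ⟨y, hy⟩)
    rw [pentCore_eq] at hx hc
    obtain ⟨w, hw, r, hr, rfl⟩ := exists_mul_of_mem_sup (Rg_norm_W9g S) hx
    obtain ⟨T, hT, rfl⟩ := (Rg_mem S).1 hr
    have hfix : fixes T w9Bas = true := List.all_eq_true.2 fun b hb => beq_iff_eq.2 (by
      have e := hc _ (mem_sup_left (F_mem_synGrp S hb))
      refine (lf_fix S (good_rTab hT) (w9Bas_ev hb)).1 ?_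
      rw [← mul_assoc, h.V_comm (S.F_mem b) (synGrp_le_V S _ hw), mul_assoc, mul_assoc] at e
      exact (mul_left_cancel e).symm)
    have h1 := List.all_eq_true.1 w9_check.2.2.1 T hT
    rw [hfix, Bool.not_true, Bool.or_false, beq_iff_eq] at h1
    have h2 : lf S T = 1 := (lf_eq_one S (gd_of_good (good_rTab hT))).2 h1
    simp only [h2, mul_one] at hc ⊢
    obtain ⟨q, hq, rfl⟩ := (mem_synGrp S).1 hw
    have h2 := List.all_eq_true.1 w9_check.2.2.2.1 q hq
    simp only [Bool.or_eq_true, List.contains_iff_mem, List.any_eq_true, Bool.not_eq_true',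
      beq_eq_false_iff_ne] at h2
    rcases h2 with h2 | ⟨U, hU, hne⟩
    · exact (mem_Zg S).2 ⟨q, h2, rfl⟩
    · exact absurd ((lf_fix S (good_rGens hU) (spanOf_ev (fun _ => w9Bas_ev) q hq)).1
        (hc _ (mem_sup_right (lf_mem_tabGrp S hU)))) hne
  · intro hxZ y
    exact Subtype.ext (mem_centralizer_iff.1 (pentCore_le_cent S y.2) x hxZ).symm

theorem isSpecial : Cfsg.IsSpecial 2 ↥(pentCore S) := by
  haveI : Fact (Nat.Prime 2) := ⟨Nat.prime_two⟩
  have hP : IsPGroup 2 ↥(pentCore S) := IsPGroup.of_card (card_pentCore S)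
  set Z := (Zg S).subgroupOf (pentCore S) with hZ
  haveI : Z.Normal := by
    rw [hZ, ← center_pentCore]; infer_instance
  obtain ⟨hcomm, hsq⟩ := comm_sq S
  have hle : commutator ↥(pentCore S) ≤ Z := by
    rw [_root_.commutator_def, commutator_le]
    intro a _ b _
    exact hcomm a a.2 b b.2
  have hge : Z ≤ commutator ↥(pentCore S) := by
    intro x hx
    have hsub : Zg S ≤ (commutator ↥(pentCore S)).map (pentCore S).subtype := by
      rw [Zg, synGrp, closure_le]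
      rintro y ⟨z, hz, rfl⟩
      have h1 := List.all_eq_true.1 w9_check.2.2.2.2.2.2 z hz
      simp only [List.any_eq_true, beq_iff_eq] at h1
      obtain ⟨T, hT, b, hb, e⟩ := h1
      have hbm : S.F b ∈ pentCore S := pentCore_eq S ▸ mem_sup_left (F_mem_synGrp S hb)
      have hTm : lf S T ∈ pentCore S := pentCore_eq S ▸ mem_sup_right (lf_mem_tabGrp S hT)
      refine ⟨⁅(⟨_, hTm⟩ : ↥(pentCore S)), ⟨_, hbm⟩⁆, commutator_mem_commutator (mem_top _) (mem_top _), ?_⟩
      obtain ⟨-, hc⟩ := lf_conj S (good_rGens hT) (w9Bas_ev hb)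
      show lf S T * S.F b * (lf S T)⁻¹ * (S.F b)⁻¹ = S.F z
      rw [hc, inv_eq_of_mul_eq_one_right (S.F_sq b), ← S.F_xor, e]
    obtain ⟨y, hy, e⟩ := hsub hx
    rwa [← Subtype.ext e]
  have hfle : frattini ↥(pentCore S) ≤ Z :=
    PGroups.frattini_le_of_commutator_le (p := 2) _ hle fun x => by
      rw [pow_two]; exact hsq x x.2
  exact ⟨hP, by rw [center_pentCore]; exact le_antisymm hfle (hge.trans (PGroups.commutator_le_frattini hP)),
    by rw [center_pentCore]; exact le_antisymm hle hge⟩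

theorem card_center : Nat.card ↥(center ↥(pentCore S)) = 8 := by
  rw [center_pentCore, Nat.card_congr (subgroupOfEquivOfLe (Zg_le_pentCore S)).toEquiv, card_Zg]

/-- The normaliser of the core is that of its centre. -/
theorem norm_pentCore : normalizer (pentCore S : Set G) = normalizer (Zg S : Set G) := by
  refine le_antisymm (fun g hg => ?_) (norm_le_pentCore S)
  refine mem_normalizer_fintype fun z hz => ?_
  have hzL : (⟨z, Zg_le_pentCore S hz⟩ : ↥(pentCore S)) ∈ center ↥(pentCore S) := by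
    rw [center_pentCore]; exact hz
  have hm : g * z * g⁻¹ ∈ pentCore S := (mem_normalizer_iff.1 hg z).1 (Zg_le_pentCore S hz)
  have h1 : (⟨g * z * g⁻¹, hm⟩ : ↥(pentCore S)) ∈ center ↥(pentCore S) := by
    rw [mem_center_iff]
    rintro ⟨y, hy⟩
    refine Subtype.ext ?_
    show y * (g * z * g⁻¹) = g * z * g⁻¹ * y
    have hy' : g⁻¹ * y * g ∈ pentCore S := by
      simpa using (mem_normalizer_iff.1 (inv_mem hg) y).1 hy
    have e : g⁻¹ * y * g * z = z * (g⁻¹ * y * g) :=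
      congrArg Subtype.val (mem_center_iff.1 hzL ⟨_, hy'⟩)
    calc y * (g * z * g⁻¹) = g * ((g⁻¹ * y * g) * z) * g⁻¹ := by group
      _ = g * (z * (g⁻¹ * y * g)) * g⁻¹ := by rw [e]
      _ = g * z * g⁻¹ * y := by group
  rw [center_pentCore] at h1
  exact h1

end Cfsg.Agent.H98.JFour.Pentad
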